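import Groth.Agent.GrCanon.InjDim

/-!
A finite graded module free of rank one at `m` is a shift of `R`.
-/

set_option autoImplicit false
set_option linter.unusedSectionVars false
set_option linter.style.haveILetI false
set_option backward.isDefEq.respectTransparency false
set_option backward.isDefEq.respectTransparency.types false
universe u

open scoped Classical
open DirectSum Groth.Agent.GrLCLib

noncomputable section

namespace Groth.Agent.GrCanon

variable {R : Type u} [CommRing R] [IsNoetherianRing R] {𝒜 : ℤ → AddSubgroup R} [GradedRing 𝒜]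
  {m : HomogeneousIdeal 𝒜} (hpos : ∀ k : ℤ, k < 0 → 𝒜 k = ⊥) (hm : GrLC.IsStarLocal 𝒜 m)
  {M : Type u} [AddCommGroup M] [Module R M] {ℳ : ℤ → AddSubgroup M} [DirectSum.Decomposition ℳ]
  [SetLike.GradedSMul 𝒜 ℳ]

include hpos hm in
lemma homogeneous_eq_zero {g : ℤ} {x : M} (hx : x ∈ ℳ g) {s : R} (hs : s ∉ m.toIdeal) (h : s • x = 0) : x = 0 := by
  obtain ⟨v, hv⟩ := pr_zero_unit hpos hm hs
  have h1 := pr_smul_left 𝒜 ℳ hx g s
  rw [h, map_zero, sub_self] at h1
  rw [← one_smul R x, ← hv, mul_smul, ← h1, smul_zero]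

include hpos hm in
theorem exists_bijective_deg [m.toIdeal.IsMaximal] [Module.Finite R M]
    (e : LocalizedModule m.toIdeal.primeCompl M ≃ₗ[Localization.AtPrime m.toIdeal] Localization.AtPrime m.toIdeal) :
    ∃ (a : ℤ) (f : R →ₗ[R] M), Function.Bijective f ∧ GrLC.IsGrHomDeg 𝒜 ℳ f a := by
  let A := Localization.AtPrime m.toIdeal
  let mk := LocalizedModule.mkLinearMap m.toIdeal.primeCompl M
  obtain ⟨t, d, y, hy, hys⟩ := exists_homog_spanning (R := R) ℳ
  obtain ⟨i, hi⟩ : ∃ i, IsUnit (e (mk (y i))) := by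
    by_contra hcon
    push Not at hcon
    have key : ∀ x : M, e (mk x) ∈ IsLocalRing.maximalIdeal A := by
      intro x
      have hx : x ∈ Submodule.span R (Set.range y) := hys ▸ Submodule.mem_top
      induction hx using Submodule.span_induction with
      | mem z hz =>
        obtain ⟨i, rfl⟩ := hz
        exact (IsLocalRing.mem_maximalIdeal _).2 (hcon i)
      | zero => rw [map_zero, map_zero]; exact zero_mem _
      | add u v _ _ hu hv => rw [map_add, map_add]; exact add_mem hu hv
      | smul r u _ hu =>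
        rw [map_smul, ← algebraMap_smul A r (mk u), map_smul, smul_eq_mul]
        exact Ideal.mul_mem_left _ _ hu
    obtain ⟨⟨x, s⟩, hxs⟩ := IsLocalizedModule.surj m.toIdeal.primeCompl mk (e.symm 1)
    have h1 := congrArg e hxs
    rw [Submonoid.smul_def, ← algebraMap_smul A (s : R) (e.symm 1), map_smul, e.apply_symm_apply, smul_eq_mul, mul_one] at h1
    exact (IsLocalRing.maximalIdeal A).ne_top_iff_one.1 (IsLocalRing.maximalIdeal.isMaximal A).ne_top
      ((Ideal.unit_mul_mem_iff_mem _ (IsLocalization.map_units A s)).1 (by rw [mul_one, h1]; exact key x))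
  let f := LinearMap.toSpanSingleton R M (y i)
  have hf : GrLC.IsGrHomDeg 𝒜 ℳ f (d i) := fun g r hr => smul_mem 𝒜 ℳ hr (hy i)
  have hker : ∀ r : R, r • y i = 0 → r = 0 := by
    intro r hr
    rw [← sum_pr 𝒜 r]
    refine Finset.sum_eq_zero fun g _ => ?_
    have h1 : pr 𝒜 g r • y i = 0 := by
      have := pr_smul_left 𝒜 ℳ (hy i) (g + d i) r
      rw [hr, map_zero, add_sub_cancel_right] at this
      exact this.symm
    have h2 : algebraMap R A (pr 𝒜 g r) * e (mk (y i)) = 0 := by
      rw [← smul_eq_mul, ← map_smul, algebraMap_smul, ← map_smul, h1, map_zero, map_zero]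
    obtain ⟨s, hs⟩ := (IsLocalization.map_eq_zero_iff m.toIdeal.primeCompl A _).1 (hi.mul_left_eq_zero.1 h2)
    exact homogeneous_eq_zero hpos hm (ℳ := 𝒜) (pr_mem 𝒜 g r) s.2 hs
  have hsur : ∀ z : M, ∃ r : R, r • y i = z := by
    intro z
    induction z using DirectSum.Decomposition.inductionOn ℳ with
    | zero => exact ⟨0, zero_smul R _⟩
    | @homogeneous g z =>
      obtain ⟨⟨r, s⟩, hrs⟩ := IsLocalization.surj m.toIdeal.primeCompl (e (mk (z : M)) * ↑hi.unit⁻¹)
      have h1 : mk ((s : R) • (z : M)) = mk (r • y i) := e.injective (by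
        rw [map_smul mk, map_smul mk, ← algebraMap_smul A (s : R) (mk (z : M)), ← algebraMap_smul A r (mk (y i)),
          map_smul, map_smul, smul_eq_mul, smul_eq_mul, ← hrs]
        linear_combination (-(algebraMap R A s) * e (mk (z : M))) * hi.val_inv_mul)
      obtain ⟨c, hc⟩ := (IsLocalizedModule.eq_iff_exists m.toIdeal.primeCompl mk).1 h1
      obtain ⟨v, hv⟩ := pr_zero_unit hpos hm (s := (c : R) * (s : R))
        (fun h => (Ideal.IsPrime.mem_or_mem inferInstance h).elim c.2 s.2)
      refine ⟨v * pr 𝒜 (g - d i) ((c : R) * r), ?_⟩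
      have h2 := congrArg (pr ℳ g) hc
      rw [Submonoid.smul_def, Submonoid.smul_def, ← mul_smul, ← mul_smul, pr_smul_left 𝒜 ℳ z.2, sub_self,
        pr_smul_left 𝒜 ℳ (hy i)] at h2
      rw [mul_smul, ← h2, ← mul_smul, hv, one_smul]
    | add u v hu hv =>
      obtain ⟨a, ha⟩ := hu; obtain ⟨b, hb⟩ := hv
      exact ⟨a + b, by rw [add_smul, ha, hb]⟩
  refine ⟨d i, f, ⟨(injective_iff_map_eq_zero f).2 fun r hr => hker r hr, fun z => ?_⟩, hf⟩
  obtain ⟨r, hr⟩ := hsur z
  exact ⟨r, hr⟩

end Groth.Agent.GrCanon
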