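import Mathlib
import Groth.Agent.GrLCLib.ExtStarInj
import Groth.Agent.GrLCLib.Dim
import Groth.Agent.CanonDual.Exist
import Groth.Agent.SerreReg.Regular
import Groth.Agent.ExtBC.Basic

/-!
Injective dimension of a graded module over a positively graded *local ring is controlled at the
irrelevant maximal ideal.
-/

set_option autoImplicit false
set_option linter.unusedSectionVars false
set_option linter.style.haveILetI false
set_option backward.isDefEq.respectTransparency false
set_option backward.isDefEq.respectTransparency.types false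
universe u

open scoped Classical TensorProduct
open DirectSum CategoryTheory Abelian Groth.Agent.GrLCLib

noncomputable section

namespace Groth.Agent.GrCanon

variable {R : Type u} [CommRing R] [IsNoetherianRing R]

theorem finite_abExt (M K : Type u) [AddCommGroup M] [Module R M] [Module.Finite R M] [AddCommGroup K] [Module R K]
    [Module.Finite R K] (i : ℕ) : Module.Finite R (Ext.{u} (ModuleCat.of R M) (ModuleCat.of R K) i) := by
  haveI := CanonDual.finite_ext (S := R) M K i
  exact Module.Finite.equiv (ExtCompare.extEquiv R (ModuleCat.of R M) (ModuleCat.of R K) i)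

variable {𝒜 : ℤ → AddSubgroup R} [GradedRing 𝒜] {m : HomogeneousIdeal 𝒜}
  (hpos : ∀ k : ℤ, k < 0 → 𝒜 k = ⊥) (hm : GrLC.IsStarLocal 𝒜 m) (C : GrLC.GMod.{u} 𝒜) [Module.Finite R C.carrier]

include hpos hm in
lemma pr_zero_unit {s : R} (hs : s ∉ m.toIdeal) : ∃ v : R, v * pr 𝒜 0 s = 1 := by
  have hmax := isMaximal_of_isStarLocal hpos hm
  have h0m : pr 𝒜 0 s ∉ m.toIdeal := fun h => hs (by simpa using add_mem (sub_pr_zero_mem hpos hm s) h)
  have htop : Ideal.span {pr 𝒜 0 s} = ⊤ := by
    by_contra h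
    exact h0m (le_of_isHomogeneous hm (Ideal.homogeneous_span 𝒜 _ fun y hy => ⟨0, by
      rw [Set.mem_singleton_iff.1 hy]; exact pr_mem 𝒜 0 s⟩) h (Ideal.mem_span_singleton_self _))
  obtain ⟨v, hv⟩ := Ideal.mem_span_singleton'.1 ((Ideal.eq_top_iff_one _).1 htop)
  exact ⟨v, hv⟩

include hpos hm in
/-- A homogeneous map which extends after multiplication by `s ∉ m` extends. -/
theorem exists_extend_of_smul {F K : GrLC.GMod.{u} 𝒜} (j : K.carrier →ₗ[R] F.carrier)
    (hj : GrLC.IsGrHom K.gr F.gr j) {s : R} (hs : s ∉ m.toIdeal) (φ : K.carrier →ₗ[R] C.carrier) {δ : ℤ}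
    (hφ : ∀ g, ∀ x ∈ K.gr g, φ x ∈ C.gr (g + δ)) (ψ : F.carrier →ₗ[R] C.carrier) (h : ψ ∘ₗ j = s • φ) :
    ∃ h : F.carrier →ₗ[R] C.carrier, h ∘ₗ j = φ := by
  obtain ⟨v, hv⟩ := pr_zero_unit hpos hm hs
  obtain ⟨ψ', hψ'⟩ := exists_degPart F C ψ δ
  refine ⟨v • ψ', LinearMap.ext fun x => ?_⟩
  induction x using DirectSum.Decomposition.inductionOn K.gr with
  | zero => simp
  | @homogeneous g y =>
    show v • ψ' (j y) = φ y
    rw [hψ' g _ (hj g _ y.2)]
    have h1 : ψ (j y) = s • φ y := LinearMap.congr_fun h y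
    rw [h1, pr_smul_left 𝒜 C.gr (hφ g _ y.2) (g + δ) s, sub_self, ← mul_smul, hv, one_smul]
  | add a b ha hb => rw [map_add, map_add, ha, hb]

include hpos hm in
theorem extend_all_of_smul {F K : GrLC.GMod.{u} 𝒜} [Module.Finite R K.carrier] (j : K.carrier →ₗ[R] F.carrier)
    (hj : GrLC.IsGrHom K.gr F.gr j) {s : R} (hs : s ∉ m.toIdeal)
    (h : ∀ φ : K.carrier →ₗ[R] C.carrier, ∃ ψ : F.carrier →ₗ[R] C.carrier, ψ ∘ₗ j = s • φ)
    (f : K.carrier →ₗ[R] C.carrier) : ∃ ψ : F.carrier →ₗ[R] C.carrier, ψ ∘ₗ j = f := by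
  obtain ⟨t, d, y, hy, hys⟩ := exists_homog_spanning (R := R) K.gr
  choose F' hF' using fun δ => exists_degPart K C f δ
  have hext : ∀ δ, ∃ ψ : F.carrier →ₗ[R] C.carrier, ψ ∘ₗ j = F' δ := fun δ => by
    obtain ⟨ψ, hψ⟩ := h (F' δ)
    exact exists_extend_of_smul hpos hm C j hj hs (F' δ) (fun g x hx => hF' δ g x hx ▸ pr_mem C.gr _ _) ψ hψ
  choose H hH using hext
  let Δ : Finset ℤ := Finset.univ.biUnion fun i => (DirectSum.decompose C.gr (f (y i))).support.image fun g => g - d i
  refine ⟨∑ δ ∈ Δ, H δ, LinearMap.ext_on_range hys fun i => ?_⟩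
  rw [LinearMap.comp_apply, LinearMap.sum_apply]
  calc ∑ δ ∈ Δ, H δ (j (y i)) = ∑ δ ∈ Δ, pr C.gr (d i + δ) (f (y i)) :=
        Finset.sum_congr rfl fun δ _ => (LinearMap.congr_fun (hH δ) (y i)).trans (hF' δ _ _ (hy i))
    _ = ∑ δ ∈ (DirectSum.decompose C.gr (f (y i))).support.image (fun g => g - d i), pr C.gr (d i + δ) (f (y i)) := by
        refine (Finset.sum_subset (Finset.subset_biUnion_of_mem _ (Finset.mem_univ i)) fun δ _ hδ => ?_).symm
        by_contra h
        refine hδ (Finset.mem_image.2 ⟨d i + δ, DFinsupp.mem_support_iff.2 fun h0 => h (congrArg Subtype.val h0), ?_⟩)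
        abel
    _ = f (y i) := by
        rw [Finset.sum_image fun a _ b _ hab => sub_left_inj.1 hab]
        refine (Finset.sum_congr rfl fun g _ => ?_).trans (sum_pr C.gr (f (y i)))
        rw [add_sub_cancel]

include hpos hm in
/-- `Ext` of finite graded modules vanishes if it is killed by an element outside `m`. -/
theorem subsingleton_ext_of_killed : ∀ (i : ℕ) (M : GrLC.GMod.{u} 𝒜) [Module.Finite R M.carrier] {s : R},
    s ∉ m.toIdeal → (∀ e : Ext.{u} (ModuleCat.of R M.carrier) (ModuleCat.of R C.carrier) (i + 1), s • e = 0) →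
      Subsingleton (Ext.{u} (ModuleCat.of R M.carrier) (ModuleCat.of R C.carrier) (i + 1)) := by
  intro i
  induction i with
  | zero =>
    intro M _ s hs hkill
    obtain ⟨t, d, y, hy, hys⟩ := exists_homog_spanning (R := R) M.gr
    let F := freeObj 𝒜 d
    let π : F.carrier →ₗ[R] M.carrier := Fintype.linearCombination R y
    have hπs : Function.Surjective π := by
      rw [← LinearMap.range_eq_top]
      exact (Fintype.range_linearCombination R y).trans hys
    have hπ : GrLC.IsGrHom F.gr M.gr π := fun g v hv => by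
      show Fintype.linearCombination R y v ∈ M.gr g
      rw [Fintype.linearCombination_apply]
      refine sum_mem fun j _ => ?_
      have h1 := smul_mem 𝒜 M.gr (hv j) (hy j)
      rwa [sub_add_cancel] at h1
    let K := subObj 𝒜 F.gr (LinearMap.ker π) (homog_ker F.gr M.gr hπ)
    haveI : Module.Finite R F.carrier := inferInstanceAs (Module.Finite R (Fin t → R))
    haveI : Module.Finite R K.carrier := inferInstanceAs (Module.Finite R (LinearMap.ker π))
    let S : ShortComplex (ModuleCat.{u} R) := ShortComplex.mk (X₁ := ModuleCat.of R (LinearMap.ker π))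
      (X₂ := ModuleCat.of R F.carrier) (X₃ := ModuleCat.of R M.carrier)
      (ModuleCat.ofHom (LinearMap.ker π).subtype) (ModuleCat.ofHom π) (by ext x; exact x.2)
    have hS : S.ShortExact :=
      { exact := by
          rw [ShortComplex.moduleCat_exact_iff]
          intro z hz
          exact ⟨⟨z, hz⟩, rfl⟩
        mono_f := (ModuleCat.mono_iff_injective _).2 (LinearMap.ker π).injective_subtype
        epi_g := (ModuleCat.epi_iff_surjective _).2 hπs }
    haveI : Module.Free R F.carrier := inferInstanceAs (Module.Free R (Fin t → R))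
    haveI : Projective S.X₂ := inferInstanceAs (Projective (ModuleCat.of R F.carrier))
    obtain ⟨e⟩ := ExtBC.nonempty_ext_one_equiv (K := C.carrier) hS
    refine subsingleton_of_forall_eq 0 fun z => e.injective ?_
    rw [map_zero]
    obtain ⟨f, hf⟩ := Submodule.mkQ_surjective _ (e z)
    rw [← hf, Submodule.mkQ_apply, Submodule.Quotient.mk_eq_zero]
    refine extend_all_of_smul hpos hm C (F := F) (K := K) (LinearMap.ker π).subtype (fun _ _ hx => hx) hs (fun φ => ?_) f
    have h1 : (Submodule.Quotient.mk (s • φ) : _ ⧸ LinearMap.range (LinearMap.lcomp R C.carrier S.f.hom)) = 0 := by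
      rw [Submodule.Quotient.mk_smul, ← e.apply_symm_apply (Submodule.Quotient.mk φ), ← map_smul, hkill, map_zero]
    exact (Submodule.Quotient.mk_eq_zero _).1 h1
  | succ k ih =>
    intro M _ s hs hkill
    obtain ⟨t, d, y, hy, hys⟩ := exists_homog_spanning (R := R) M.gr
    let F := freeObj 𝒜 d
    let π : F.carrier →ₗ[R] M.carrier := Fintype.linearCombination R y
    have hπs : Function.Surjective π := by
      rw [← LinearMap.range_eq_top]
      exact (Fintype.range_linearCombination R y).trans hys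
    have hπ : GrLC.IsGrHom F.gr M.gr π := fun g v hv => by
      show Fintype.linearCombination R y v ∈ M.gr g
      rw [Fintype.linearCombination_apply]
      refine sum_mem fun j _ => ?_
      have h1 := smul_mem 𝒜 M.gr (hv j) (hy j)
      rwa [sub_add_cancel] at h1
    let K := subObj 𝒜 F.gr (LinearMap.ker π) (homog_ker F.gr M.gr hπ)
    haveI : Module.Finite R F.carrier := inferInstanceAs (Module.Finite R (Fin t → R))
    haveI : Module.Finite R K.carrier := inferInstanceAs (Module.Finite R (LinearMap.ker π))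
    let S : ShortComplex (ModuleCat.{u} R) := ShortComplex.mk (X₁ := ModuleCat.of R (LinearMap.ker π))
      (X₂ := ModuleCat.of R F.carrier) (X₃ := ModuleCat.of R M.carrier)
      (ModuleCat.ofHom (LinearMap.ker π).subtype) (ModuleCat.ofHom π) (by ext x; exact x.2)
    have hS : S.ShortExact :=
      { exact := by
          rw [ShortComplex.moduleCat_exact_iff]
          intro z hz
          exact ⟨⟨z, hz⟩, rfl⟩
        mono_f := (ModuleCat.mono_iff_injective _).2 (LinearMap.ker π).injective_subtype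
        epi_g := (ModuleCat.epi_iff_surjective _).2 hπs }
    haveI : Module.Free R F.carrier := inferInstanceAs (Module.Free R (Fin t → R))
    haveI : Projective S.X₂ := inferInstanceAs (Projective (ModuleCat.of R F.carrier))
    obtain ⟨e⟩ := ExtBC.nonempty_ext_succ_equiv (K := C.carrier) hS k
    haveI : Subsingleton (Ext.{u} S.X₁ (ModuleCat.of R C.carrier) (k + 1)) := ih K hs fun z => e.injective (by
      rw [map_zero, map_smul, hkill])
    exact e.symm.injective.subsingleton

include hpos hm in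
/-- Above the local injective dimension at `m`, `Ext` of finite graded modules vanishes. -/
theorem subsingleton_ext_graded [m.toIdeal.IsMaximal] {N : ℕ}
    (hN : HasInjectiveDimensionLT (ModuleCat.of (Localization.AtPrime m.toIdeal)
      (LocalizedModule m.toIdeal.primeCompl C.carrier)) N)
    {i : ℕ} (hi : N ≤ i + 1) (M : GrLC.GMod.{u} 𝒜) [Module.Finite R M.carrier] :
    Subsingleton (Ext.{u} (ModuleCat.of R M.carrier) (ModuleCat.of R C.carrier) (i + 1)) := by
  let A := Localization.AtPrime m.toIdeal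
  let E := Ext.{u} (ModuleCat.of R M.carrier) (ModuleCat.of R C.carrier) (i + 1)
  haveI : Module.Finite R E := finite_abExt M.carrier C.carrier (i + 1)
  haveI : Module.Flat R A := IsLocalization.flat A m.toIdeal.primeCompl
  obtain ⟨β⟩ := ExtBC.nonempty_ext_baseChange (A := R) (B := A) (N := C.carrier) (i + 1) M.carrier
  let eC : LocalizedModule m.toIdeal.primeCompl C.carrier ≃ₗ[A] A ⊗[R] C.carrier :=
    LocalizedModule.equivTensorProduct m.toIdeal.primeCompl C.carrier
  haveI := hN
  haveI : HasInjectiveDimensionLT (ModuleCat.of A (A ⊗[R] C.carrier)) N :=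
    hasInjectiveDimensionLT_of_iso eC.toModuleIso N
  haveI : Subsingleton (Ext.{u} (ModuleCat.of A (A ⊗[R] M.carrier)) (ModuleCat.of A (A ⊗[R] C.carrier)) (i + 1)) :=
    HasInjectiveDimensionLT.subsingleton _ N (i + 1) hi _
  haveI hT : Subsingleton (A ⊗[R] E) := β.toEquiv.subsingleton
  obtain ⟨G, hG⟩ := (Module.Finite.fg_top : (⊤ : Submodule R E).FG)
  have hkill : ∀ z : E, ∃ s : R, s ∉ m.toIdeal ∧ s • z = 0 := fun z => by
    obtain ⟨s, hs⟩ := (IsLocalizedModule.eq_zero_iff m.toIdeal.primeCompl (TensorProduct.mk R A E 1) (m := z)).1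
      (Subsingleton.elim _ _)
    exact ⟨s, s.2, hs⟩
  choose s hs hsz using hkill
  refine subsingleton_ext_of_killed hpos hm C i M (s := ∏ g ∈ G, s g)
    (Submonoid.prod_mem m.toIdeal.primeCompl fun g _ => hs g) fun z => ?_
  have hz : z ∈ Submodule.span R (G : Set E) := hG ▸ Submodule.mem_top
  induction hz using Submodule.span_induction with
  | mem g hg => rw [← Finset.prod_erase_mul G s hg, mul_smul, hsz, smul_zero]
  | zero => rw [smul_zero]
  | add a b _ _ ha hb => rw [smul_add, ha, hb, add_zero]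
  | smul r a _ ha => rw [smul_comm, ha, smul_zero]

section ses

/-- `0 → R/I → R/I → R/(I + (f)) → 0` for `f` regular modulo the prime `I`. -/
abbrev mulQuotSeq (I : Ideal R) (f : R) : ShortComplex (ModuleCat.{u} R) :=
  ShortComplex.mk (X₁ := ModuleCat.of R (R ⧸ I)) (X₂ := ModuleCat.of R (R ⧸ I))
    (X₃ := ModuleCat.of R (R ⧸ (I ⊔ Ideal.span {f})))
    (ModuleCat.ofHom (f • LinearMap.id : (R ⧸ I) →ₗ[R] R ⧸ I))
    (ModuleCat.ofHom (Submodule.factor (le_sup_left : I ≤ I ⊔ Ideal.span {f})))
    (ModuleCat.hom_ext (LinearMap.ext fun w => by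
      obtain ⟨a, rfl⟩ := Submodule.Quotient.mk_surjective _ w
      show Submodule.Quotient.mk (f • a) = 0
      exact (Submodule.Quotient.mk_eq_zero _).2 (Ideal.mem_sup_right (Ideal.mul_mem_right _ _ (Ideal.mem_span_singleton_self f)))))

theorem mulQuotSeq_shortExact {I : Ideal R} [I.IsPrime] {f : R} (hf : f ∉ I) : (mulQuotSeq I f).ShortExact where
  exact := (ShortComplex.moduleCat_exact_iff _).2 fun (w : R ⧸ I) hw => by
    obtain ⟨a, rfl⟩ := Submodule.Quotient.mk_surjective _ w
    obtain ⟨p, hp', q, hq, hpq⟩ := Submodule.mem_sup.1 ((Submodule.Quotient.mk_eq_zero (I ⊔ Ideal.span {f})).1 hw)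
    obtain ⟨r, rfl⟩ := Ideal.mem_span_singleton'.1 hq
    refine ⟨Submodule.Quotient.mk r, ?_⟩
    show Submodule.Quotient.mk (f • r) = Submodule.Quotient.mk a
    rw [Submodule.Quotient.eq, smul_eq_mul, show a = p + r * f from hpq.symm]
    have : f * r - (p + r * f) = -p := by ring
    rw [this]; exact neg_mem hp'
  mono_f := (ModuleCat.mono_iff_injective _).2 ((injective_iff_map_eq_zero (f • LinearMap.id : (R ⧸ I) →ₗ[R] R ⧸ I)).2
    fun w hw => by
      obtain ⟨a, rfl⟩ := Submodule.Quotient.mk_surjective _ w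
      have : f * a ∈ I := (Submodule.Quotient.mk_eq_zero _).1 hw
      exact (Submodule.Quotient.mk_eq_zero _).2 ((Ideal.IsPrime.mem_or_mem ‹_› this).resolve_left hf))
  epi_g := (ModuleCat.epi_iff_surjective _).2 (Submodule.factor_surjective le_sup_left)

theorem ext_quot_sup {I : Ideal R} [I.IsPrime] {f : R} (hf : f ∉ I) (Y : ModuleCat.{u} R) {l : ℕ}
    (h1 : Subsingleton (Ext.{u} (ModuleCat.of R (R ⧸ I)) Y l))
    (h2 : Subsingleton (Ext.{u} (ModuleCat.of R (R ⧸ I)) Y (l + 1))) :
    Subsingleton (Ext.{u} (ModuleCat.of R (R ⧸ (I ⊔ Ideal.span {f}))) Y (l + 1)) :=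
  subsingleton_of_forall_eq 0 fun e => by
    obtain ⟨x, rfl⟩ := Ext.contravariant_sequence_exact₃ (mulQuotSeq_shortExact hf) Y e (h2.elim _ _) (add_comm 1 l)
    rw [h1.elim x 0, Ext.comp_zero]

theorem exists_smul_of_ses {I : Ideal R} [I.IsPrime] {f : R} (hf : f ∉ I) (Y : ModuleCat.{u} R) {i : ℕ}
    (h : Subsingleton (Ext.{u} (ModuleCat.of R (R ⧸ (I ⊔ Ideal.span {f}))) Y (i + 1)))
    (e : Ext.{u} (ModuleCat.of R (R ⧸ I)) Y i) : ∃ e', e = f • e' := by
  obtain ⟨b, hb⟩ := Ext.contravariant_sequence_exact₁ (mulQuotSeq_shortExact hf) Y e (add_comm 1 i) (h.elim _ _)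
  refine ⟨b, hb.symm.trans ?_⟩
  rw [show (mulQuotSeq I f).f = f • 𝟙 (ModuleCat.of R (R ⧸ I)) from ModuleCat.hom_ext rfl, Ext.mk₀_smul, Ext.smul_comp,
    Ext.mk₀_id_comp]

theorem devissage_step {I : Ideal R} (htop : I ≠ ⊤) (hp : ¬ I.IsPrime) (Y : ModuleCat.{u} R) {i : ℕ}
    (ih : ∀ J, I < J → Subsingleton (Ext.{u} (ModuleCat.of R (R ⧸ J)) Y i)) :
    Subsingleton (Ext.{u} (ModuleCat.of R (R ⧸ I)) Y i) := by
  rw [Ideal.isPrime_iff, not_and] at hp
  obtain ⟨a, b, hab, ha, hb⟩ : ∃ a b, a * b ∈ I ∧ a ∉ I ∧ b ∉ I := by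
    by_contra hc
    push Not at hc
    exact hp htop fun {a b} hab => or_iff_not_imp_left.2 (hc a b hab)
  let J₁ : Ideal R := Submodule.comap (LinearMap.mulRight R a) I
  let J₂ := I ⊔ Ideal.span {a}
  have hJ₁ : I < J₁ := lt_of_le_of_ne (fun r hr => I.mul_mem_right a hr) fun he =>
    hb (he ▸ (show b * a ∈ I by rwa [mul_comm]))
  have hJ₂ : I < J₂ := lt_of_le_of_ne le_sup_left fun he =>
    ha (he ▸ Ideal.mem_sup_right (Ideal.mem_span_singleton_self a))
  let f : (R ⧸ J₁) →ₗ[R] R ⧸ I := Submodule.mapQ J₁ I (LinearMap.mulRight R a) le_rfl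
  let g : (R ⧸ I) →ₗ[R] R ⧸ J₂ := Submodule.factor hJ₂.le
  have hzero : g.comp f = 0 := LinearMap.ext fun w => by
    obtain ⟨r, rfl⟩ := Submodule.Quotient.mk_surjective _ w
    show Submodule.Quotient.mk (r * a) = 0
    exact (Submodule.Quotient.mk_eq_zero _).2 (Ideal.mem_sup_right (Ideal.mul_mem_left _ _ (Ideal.mem_span_singleton_self a)))
  let T : ShortComplex (ModuleCat.{u} R) :=
    ShortComplex.mk (ModuleCat.ofHom f) (ModuleCat.ofHom g) (ModuleCat.hom_ext hzero)
  have hT : T.ShortExact :=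
    { exact := (ShortComplex.moduleCat_exact_iff _).2 fun (w : R ⧸ I) (hw : g w = 0) => by
        obtain ⟨c, rfl⟩ := Submodule.Quotient.mk_surjective _ w
        obtain ⟨p, hp', q, hq, hpq⟩ := Submodule.mem_sup.1 ((Submodule.Quotient.mk_eq_zero _).1 hw)
        obtain ⟨r, rfl⟩ := Ideal.mem_span_singleton'.1 hq
        refine ⟨Submodule.Quotient.mk r, ?_⟩
        show Submodule.Quotient.mk (r * a) = Submodule.Quotient.mk c
        rw [Submodule.Quotient.eq, show c = p + r * a from hpq.symm]
        have : r * a - (p + r * a) = -p := by ring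
        rw [this]; exact neg_mem hp'
      mono_f := (ModuleCat.mono_iff_injective _).2 ((injective_iff_map_eq_zero f).2 fun w hw => by
        obtain ⟨r, rfl⟩ := Submodule.Quotient.mk_surjective _ w
        exact (Submodule.Quotient.mk_eq_zero _).2 ((Submodule.Quotient.mk_eq_zero I).1 (show (Submodule.Quotient.mk (r * a) : R ⧸ I) = 0 from hw)))
      epi_g := (ModuleCat.epi_iff_surjective _).2 (Submodule.factor_surjective hJ₂.le) }
  refine subsingleton_of_forall_eq 0 fun e => ?_
  obtain ⟨c, rfl⟩ := Ext.contravariant_sequence_exact₂ hT (Y) e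
    (@Subsingleton.elim _ (ih J₁ hJ₁) _ _)
  rw [@Subsingleton.elim _ (ih J₂ hJ₂) c 0, Ext.comp_zero]


end ses

include hpos hm in
/-- The injective dimension is at most one more than the one at `m`. -/
theorem hasInjectiveDimensionLT_of_local [m.toIdeal.IsMaximal] {N : ℕ}
    (hN : HasInjectiveDimensionLT (ModuleCat.of (Localization.AtPrime m.toIdeal)
      (LocalizedModule m.toIdeal.primeCompl C.carrier)) N) :
    HasInjectiveDimensionLT (ModuleCat.of R C.carrier) (N + 2) := by
  let Y := ModuleCat.of R C.carrier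
  have hcore : ∀ (P : Ideal R), P.IsPrime → P.IsMaximal → ∀ i, N + 2 ≤ i →
      Subsingleton (Ext.{u} (ModuleCat.of R (R ⧸ P)) Y i) := by
    intro P hP hPmax i hi
    obtain ⟨j, rfl⟩ : ∃ j, i = j + 1 := ⟨i - 1, by omega⟩
    haveI hc : (Ideal.homogeneousCore 𝒜 P).toIdeal.IsPrime := Ideal.IsPrime.homogeneousCore hP
    set c := Ideal.homogeneousCore 𝒜 P
    have hgr : ∀ l, N ≤ l + 1 → Subsingleton (Ext.{u} (ModuleCat.of R (R ⧸ c.toIdeal)) Y (l + 1)) := fun l hl => by
      haveI : Module.Finite R (quotObj 𝒜 𝒜 c.toIdeal (fun x hx g => c.isHomogeneous g hx)).carrier :=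
        inferInstanceAs (Module.Finite R (R ⧸ c.toIdeal))
      exact subsingleton_ext_graded hpos hm C hN hl (quotObj 𝒜 𝒜 c.toIdeal (fun x hx g => c.isHomogeneous g hx))
    have hcP : c.toIdeal ≤ P := Ideal.toIdeal_homogeneousCore_le 𝒜 P
    by_cases hPc : P = c.toIdeal
    · rw [hPc]; exact hgr j (by omega)
    -- a generator of `P` modulo `c` away from `P`
    let W : Set ℕ := {w | ∃ g ∈ P, g ∉ c.toIdeal ∧ width 𝒜 c.toIdeal g = w}
    obtain ⟨g0, hg0, hg0'⟩ : ∃ g ∈ P, g ∉ c.toIdeal := SetLike.exists_of_lt (lt_of_le_of_ne hcP (Ne.symm hPc))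
    obtain ⟨f, hfP, hfc, hfw⟩ : sInf W ∈ W := Nat.sInf_mem ⟨_, g0, hg0, hg0', rfl⟩
    have hf : (outDeg 𝒜 c.toIdeal f).Nonempty :=
      Finset.nonempty_iff_ne_empty.2 fun h => hfc (mem_of_outDeg_eq_empty 𝒜 h)
    have hcore' : ∀ k, ∀ a ∈ 𝒜 k, a ∈ P → a ∈ c.toIdeal := fun k a ha haP =>
      Ideal.mem_homogeneousCore_of_homogeneous_of_mem ⟨k, ha⟩ haP
    set J := c.toIdeal ⊔ Ideal.span {f}
    have hJP : J ≤ P := sup_le hcP ((Ideal.span_singleton_le_iff_mem _).2 hfP)
    have hpt : ∀ g ∈ P, ∃ a ∉ P, a * g ∈ J := fun g hg => by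
      obtain ⟨a, q, ha, haq⟩ := exists_homog_mul_sub_mem 𝒜 hcP hcore' hfP hf
        (fun g hg hgc => hfw ▸ Nat.sInf_le ⟨g, hg, hgc, rfl⟩) _ g hg le_rfl
      refine ⟨a, ha, ?_⟩
      rw [show a * g = (a * g - q * f) + q * f by ring]
      exact add_mem (Ideal.mem_sup_left haq) (Ideal.mem_sup_right (Ideal.mul_mem_left _ _ (Ideal.mem_span_singleton_self f)))
    obtain ⟨G, hG⟩ := (IsNoetherian.noetherian P : P.FG)
    choose a ha haJ using fun g : G => hpt g (hG ▸ Ideal.subset_span g.2)
    set b := ∏ g : G, a g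
    have hb : b ∉ P := Submonoid.prod_mem P.primeCompl fun g _ => ha g
    have hbP : ∀ w ∈ P, b * w ∈ J := by
      intro w hw
      rw [← hG] at hw
      induction hw using Submodule.span_induction with
      | mem g hg =>
        rw [show b = (∏ x ∈ Finset.univ.erase ⟨g, hg⟩, a x) * a ⟨g, hg⟩ from
          (Finset.prod_erase_mul Finset.univ a (Finset.mem_univ _)).symm, mul_assoc]
        exact J.mul_mem_left _ (haJ ⟨g, hg⟩)
      | zero => rw [mul_zero]; exact zero_mem _
      | add u v _ _ hu hv => rw [mul_add]; exact add_mem hu hv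
      | smul r u _ hu => rw [smul_eq_mul, mul_left_comm]; exact J.mul_mem_left _ hu
    -- `R/J`
    have hJ : Subsingleton (Ext.{u} (ModuleCat.of R (R ⧸ J)) Y (j + 1)) := by
      obtain ⟨l, rfl⟩ : ∃ l, j = l + 1 := ⟨j - 1, by omega⟩
      exact ext_quot_sup hfc Y (hgr l (by omega)) (hgr (l + 1) (by omega))
    -- `0 → P/J → R/J → R/P → 0`
    let π : (R ⧸ J) →ₗ[R] R ⧸ P := Submodule.factor hJP
    have hπs : Function.Surjective π := Submodule.factor_surjective hJP
    let S : ShortComplex (ModuleCat.{u} R) := ShortComplex.mk (X₁ := ModuleCat.of R (LinearMap.ker π))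
      (X₂ := ModuleCat.of R (R ⧸ J)) (X₃ := ModuleCat.of R (R ⧸ P))
      (ModuleCat.ofHom (LinearMap.ker π).subtype) (ModuleCat.ofHom π) (by ext x; exact x.2)
    have hS : S.ShortExact :=
      { exact := by
          rw [ShortComplex.moduleCat_exact_iff]
          intro z hz
          exact ⟨⟨z, hz⟩, rfl⟩
        mono_f := (ModuleCat.mono_iff_injective _).2 (LinearMap.ker π).injective_subtype
        epi_g := (ModuleCat.epi_iff_surjective _).2 hπs }
    have hkerb : ∀ z : LinearMap.ker π, b • z = 0 := fun z => by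
      obtain ⟨w, hw⟩ := Submodule.Quotient.mk_surjective J (z : R ⧸ J)
      refine Subtype.ext ?_
      show b • (z : R ⧸ J) = 0
      rw [← hw, ← Submodule.Quotient.mk_smul, Submodule.Quotient.mk_eq_zero]
      refine hbP w ((Submodule.Quotient.mk_eq_zero P).1 ?_)
      have h0 : π (Submodule.Quotient.mk w) = 0 := hw ▸ z.2
      exact h0
    refine subsingleton_of_forall_eq 0 fun e => ?_
    obtain ⟨x, rfl⟩ := Ext.contravariant_sequence_exact₃ hS Y e (hJ.elim _ _) (add_comm 1 j)
    obtain ⟨v, p, hp, hvp⟩ := hPmax.exists_inv hb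
    have hp0 : p • hS.extClass.comp x (add_comm 1 j) = 0 := Goren.smul_ext_eq_zero (fun w => by
      obtain ⟨w, rfl⟩ := Submodule.Quotient.mk_surjective _ w
      refine (Submodule.Quotient.mk_eq_zero P).2 ?_
      show p * w ∈ P
      exact Ideal.mul_mem_right _ _ hp) _
    have hb0 : b • hS.extClass.comp x (add_comm 1 j) = 0 := by
      rw [← Ext.comp_smul, Goren.smul_ext_eq_zero hkerb x, Ext.comp_zero]
    rw [← one_smul R (hS.extClass.comp x _), ← hvp, add_smul, mul_smul, hb0, smul_zero, hp0, add_zero]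
  have hall : ∀ (I : Ideal R) (i : ℕ), N + 2 ≤ i → Subsingleton (Ext.{u} (ModuleCat.of R (R ⧸ I)) Y i) := by
    intro I
    induction I using WellFoundedGT.induction with
    | _ I ih =>
      intro i hi
      by_cases htop : I = ⊤
      · refine subsingleton_of_forall_eq 0 fun a => ?_
        rw [← one_smul R a]
        haveI : Subsingleton (R ⧸ I) := Ideal.Quotient.subsingleton_iff.2 htop
        exact Goren.smul_ext_eq_zero (fun w => Subsingleton.elim _ _) a
      by_cases hp : I.IsPrime
      · by_cases hmax : I.IsMaximal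
        · exact hcore I hp hmax i hi
        let E := Ext.{u} (ModuleCat.of R (R ⧸ I)) Y i
        haveI : Module.Finite R E := finite_abExt (R ⧸ I) C.carrier i
        haveI := hp
        have hsurj : ∀ x ∉ I, ∀ e : E, ∃ e' : E, e = x • e' := fun x hx e =>
          exists_smul_of_ses hx Y (ih _ (lt_of_le_of_ne le_sup_left fun he =>
            hx (he ▸ Ideal.mem_sup_right (Ideal.mem_span_singleton_self x))) (i + 1) (by omega)) e
        refine subsingleton_of_forall_eq 0 fun e => ?_
        by_contra he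
        let J := (Submodule.span R {e}).annihilator
        obtain ⟨M, hM, hJM⟩ := Ideal.exists_le_maximal J (fun h => he (by
          have := Submodule.mem_annihilator.1 ((Ideal.eq_top_iff_one _).1 h) e (Submodule.mem_span_singleton_self e)
          rwa [one_smul] at this))
        have hIJ : I ≤ J := fun r hr => Submodule.mem_annihilator.2 fun w hw => by
          obtain ⟨t, rfl⟩ := Submodule.mem_span_singleton.1 hw
          rw [smul_comm, Goren.smul_ext_eq_zero (fun w => by
            obtain ⟨w, rfl⟩ := Submodule.Quotient.mk_surjective _ w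
            exact (Submodule.Quotient.mk_eq_zero I).2 (Ideal.mul_mem_right _ _ hr)) e, smul_zero]
        obtain ⟨x, hxM, hxI⟩ := SetLike.exists_of_lt (lt_of_le_of_ne (hIJ.trans hJM) fun h => hmax (h ▸ hM))
        obtain ⟨r, hr, hre⟩ := Submodule.exists_sub_one_mem_and_smul_eq_zero_of_fg_of_le_smul M (⊤ : Submodule R E)
          Module.Finite.fg_top (fun z _ => by
            obtain ⟨z', rfl⟩ := hsurj x hxI z
            exact Submodule.smul_mem_smul hxM Submodule.mem_top)
        refine hM.ne_top ((Ideal.eq_top_iff_one _).2 ?_)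
        have hrJ : r ∈ J := Submodule.mem_annihilator.2 fun w _ => hre w Submodule.mem_top
        have := sub_mem (hJM hrJ) hr
        rwa [sub_sub_cancel] at this
      · exact devissage_step htop hp Y fun K hK => ih K hK i hi
  exact SerreReg.hasInjectiveDimensionLE_of_cyclic (N + 1) Y fun I => hall I (N + 2) (by omega)

end Groth.Agent.GrCanon
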