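import Groth.Agent.GrCanon.LocalBridge
import Groth.Agent.GrCanon.InjDim
import Groth.Agent.GrLCBassLib.InjHull
import Groth.Agent.GrLCLib.Bridge

/-!
A graded canonical module localises to a canonical module of the local ring at `m`.
-/

set_option autoImplicit false
set_option linter.unusedSectionVars false
set_option linter.style.haveILetI false
set_option backward.isDefEq.respectTransparency false
set_option backward.isDefEq.respectTransparency.types false
universe u

open IsLocalRing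

noncomputable section

namespace Groth.Agent.GrCanon

variable {R : Type u} [CommRing R] [IsNoetherianRing R] {𝒜 : ℤ → AddSubgroup R} [GradedRing 𝒜]
  {m : HomogeneousIdeal 𝒜} [m.toIdeal.IsMaximal]
  {E' : Type u} [AddCommGroup E'] [Module R E'] {𝓔 : ℤ → AddSubgroup E'} [DirectSum.Decomposition 𝓔]
  [SetLike.GradedSMul 𝒜 𝓔] {e : (R ⧸ m.toIdeal) →ₗ[R] E'}

lemma isPowerTorsion_hull (he : GrLC.IsStarInjHull 𝒜 (GrLC.quotGr 𝒜 m) 𝓔 e) : LocCoh.IsPowerTorsion m.toIdeal E' :=
  fun x => (show x ∈ GrLC.gam m.toIdeal E' from GrLCBassLib.gam_eq_top 𝒜 m 𝓔 he ▸ Submodule.mem_top)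

variable {C : Type u} [AddCommGroup C] [Module R C] {𝒞 : ℤ → AddSubgroup C} [DirectSum.Decomposition 𝒞]
  [SetLike.GradedSMul 𝒜 𝒞] {n : ℕ} {I : GrLC.StarInjRes 𝒜 𝒜}

/-- The local duality datum at `m`. -/
theorem exists_local_canon (he : GrLC.IsStarInjHull 𝒜 (GrLC.quotGr 𝒜 m) 𝓔 e)
    (hC : GrLC.IsStarCanonical 𝒜 𝒞 𝓔 m n I) :
    ∃ (E₀ : Type u) (_ : AddCommGroup E₀) (_ : Module (Localization.AtPrime m.toIdeal) E₀)
      (f : ResidueField (Localization.AtPrime m.toIdeal) →ₗ[Localization.AtPrime m.toIdeal] E₀),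
      InjHull.IsInjectiveHull f ∧ Nonempty ((LocalizedModule m.toIdeal.primeCompl C →ₗ[Localization.AtPrime m.toIdeal] E₀)
        ≃ₗ[Localization.AtPrime m.toIdeal]
          LocCoh.H (maximalIdeal (Localization.AtPrime m.toIdeal)) n (Localization.AtPrime m.toIdeal)) := by
  obtain ⟨-, φ, -⟩ := hC
  have htors := isPowerTorsion_hull he
  have hull := GrLCBassLib.isInjectiveHull 𝒜 m 𝓔 he
  obtain ⟨f, hf⟩ := exists_hull m.toIdeal htors hull
  obtain ⟨ψ⟩ := GrLCLib.H_equiv_localCohomology I m n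
  exact ⟨_, _, _, f, hf, exists_local_dual m.toIdeal htors hull n C (φ.trans ψ) _ f hf⟩

lemma dim_atPrime (hpos : ∀ k : ℤ, k < 0 → 𝒜 k = ⊥) (hm : GrLC.IsStarLocal 𝒜 m) (hn : ringKrullDim R = n) :
    ringKrullDim (Localization.AtPrime m.toIdeal) = n := by
  rw [IsLocalization.AtPrime.ringKrullDim_eq_height m.toIdeal (Localization.AtPrime m.toIdeal),
    ← GrLCLib.ringKrullDim_eq_height hpos hm, hn]

end Groth.Agent.GrCanon
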