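import Groth.Agent.GrCanon.Data
import Groth.Agent.GrLCLib.EndDeg
import Groth.Agent.GrLCLib.ArtPieces

/-!
The canonical module is nonzero in some degree at most `-a`.
-/

set_option autoImplicit false
set_option linter.unusedSectionVars false
set_option linter.style.haveILetI false
set_option backward.isDefEq.respectTransparency false
set_option backward.isDefEq.respectTransparency.types false
universe u

open scoped Classical
open DirectSum Groth.Agent.GrLCLib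

noncomputable section

namespace Groth.Agent.GrCanon

variable {R : Type u} [CommRing R] [IsNoetherianRing R] {𝒜 : ℤ → AddSubgroup R} [GradedRing 𝒜]
  {m : HomogeneousIdeal 𝒜}
  {E' : Type u} [AddCommGroup E'] [Module R E'] {𝓔 : ℤ → AddSubgroup E'} [DirectSum.Decomposition 𝓔]
  [SetLike.GradedSMul 𝒜 𝓔] {e : (R ⧸ m.toIdeal) →ₗ[R] E'}

/-- The *hull of `R/m` is concentrated in degrees `≤ 0`. -/
lemma hull_eq_zero_of_pos (hpos : ∀ k : ℤ, k < 0 → 𝒜 k = ⊥) (hm : GrLC.IsStarLocal 𝒜 m)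
    (he : GrLC.IsStarInjHull 𝒜 (GrLC.quotGr 𝒜 m) 𝓔 e) {d : ℤ} (hd : 0 < d) {y : E'} (hy : y ∈ 𝓔 d) : y = 0 := by
  by_contra hy0
  have hP := he.essential (Submodule.span R {y})
    ((GrLCHull.homog_iff 𝓔).2 (GrLCHull.homog_span_singleton 𝒜 𝓔 hy))
    (fun h => hy0 ((Submodule.span_singleton_eq_bot).1 h))
  obtain ⟨z, hz, hz0⟩ := Submodule.exists_mem_ne_zero_of_ne_bot hP
  obtain ⟨t, rfl⟩ := Submodule.mem_span_singleton.1 hz.1
  obtain ⟨q, hq⟩ := hz.2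
  obtain ⟨q, rfl⟩ := Ideal.Quotient.mk_surjective q
  -- the image of `R/m` sits in degree zero
  have hq0 : e (Ideal.Quotient.mk m.toIdeal q) ∈ 𝓔 0 := by
    have h1 : Ideal.Quotient.mk m.toIdeal q = Ideal.Quotient.mk m.toIdeal (pr 𝒜 0 q) :=
      Ideal.Quotient.eq.2 (sub_pr_zero_mem hpos hm q)
    rw [h1]
    exact he.grHom 0 _ ⟨_, pr_mem 𝒜 0 q, rfl⟩
  refine hz0 ?_
  have h2 : pr 𝓔 0 (t • y) = t • y := pr_of_mem 𝓔 (hq ▸ hq0)
  rw [pr_smul_left 𝒜 𝓔 hy, show pr 𝒜 (0 - d) t = 0 from (hpos _ (by omega)).le (pr_mem 𝒜 _ t), zero_smul] at h2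
  exact h2.symm

variable {C : Type u} [AddCommGroup C] [Module R C] {𝒞 : ℤ → AddSubgroup C} [DirectSum.Decomposition 𝒞]
  [SetLike.GradedSMul 𝒜 𝒞] {n : ℕ} {I : GrLC.StarInjRes 𝒜 𝒜}

/-- The canonical module has a nonzero element in degree at most `-a`. -/
theorem exists_low_degree (hpos : ∀ k : ℤ, k < 0 → 𝒜 k = ⊥) (hm : GrLC.IsStarLocal 𝒜 m)
    (he : GrLC.IsStarInjHull 𝒜 (GrLC.quotGr 𝒜 m) 𝓔 e) (hC : GrLC.IsStarCanonical 𝒜 𝒞 𝓔 m n I) {a : ℤ}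
    (ha : GrLC.endDeg (I.Hgr m n) = ((a : WithTop ℤ) : WithBot (WithTop ℤ))) :
    ∃ g : ℤ, g ≤ -a ∧ ∃ x ∈ 𝒞 g, x ≠ 0 := by
  obtain ⟨hfin, φ, hφ⟩ := hC
  haveI : Module.Finite R C := hfin
  obtain ⟨z, hz, hz0⟩ : ∃ z ∈ I.Hgr m n a, z ≠ 0 := by
    by_contra hcon
    push Not at hcon
    have : GrLC.endDeg (I.Hgr m n) ≤ (((a - 1 : ℤ) : WithTop ℤ) : WithBot (WithTop ℤ)) := by
      refine (endDeg_le_iff I m n _).2 fun e' he' => ?_
      rcases eq_or_ne e' a with rfl | hne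
      · exact (hgr_eq_bot_iff I m n _).1 ((AddSubgroup.eq_bot_iff_forall _).2 hcon)
      · exact (endDeg_le_iff I m n a).1 ha.le e' (by omega)
    rw [ha, WithBot.coe_le_coe, WithTop.coe_le_coe] at this
    omega
  letI := (isInternal_Hgr I m n).chooseDecomposition
  let f := φ.symm z
  let A₀ := GrLC.GMod.of 𝒜 C 𝒞
  let B₀ := GrLC.GMod.of 𝒜 E' 𝓔
  obtain ⟨t, d, y, hy, hys⟩ := exists_homog_spanning (R := R) 𝒞
  have hD : ∀ δ : ℤ, ∃ f' : C →ₗ[R] E', ∀ g, ∀ x ∈ 𝒞 g, f' x = pr 𝓔 (g + δ) (f x) :=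
    fun δ => exists_degPart A₀ B₀ f δ
  choose F' hF' using hD
  have hdeg : ∀ δ, (F' δ : C →ₗ[R] E') ∈ GrLC.homDeg 𝒜 𝒞 𝓔 δ := fun δ g x hx => by
    show F' δ x ∈ 𝓔 (g + δ)
    exact hF' δ g x hx ▸ pr_mem 𝓔 _ _
  let Δ : Finset ℤ := Finset.univ.biUnion fun i => (DirectSum.decompose 𝓔 (f (y i))).support.image fun g => g - d i
  have hsum : f = ∑ δ ∈ Δ, (F' δ : C →ₗ[R] E') := LinearMap.ext_on_range hys fun i => by
    rw [LinearMap.sum_apply]
    symm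
    calc ∑ δ ∈ Δ, (F' δ : C →ₗ[R] E') (y i) = ∑ δ ∈ Δ, pr 𝓔 (d i + δ) (f (y i)) :=
          Finset.sum_congr rfl fun δ _ => hF' δ _ _ (hy i)
      _ = ∑ δ ∈ (DirectSum.decompose 𝓔 (f (y i))).support.image (fun g => g - d i), pr 𝓔 (d i + δ) (f (y i)) := by
          refine (Finset.sum_subset (Finset.subset_biUnion_of_mem _ (Finset.mem_univ i)) fun δ _ hδ => ?_).symm
          by_contra h
          refine hδ (Finset.mem_image.2 ⟨d i + δ, DFinsupp.mem_support_iff.2 fun h0 => h (congrArg Subtype.val h0), ?_⟩)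
          abel
      _ = f (y i) := by
          rw [Finset.sum_image fun a _ b _ hab => sub_left_inj.1 hab]
          refine (Finset.sum_congr rfl fun g _ => ?_).trans (sum_pr 𝓔 (f (y i)))
          rw [add_sub_cancel]
  obtain ⟨δ, hδ, hδ0⟩ : ∃ δ, δ = a ∧ (F' δ : C →ₗ[R] E') ≠ 0 := by
    refine ⟨a, rfl, fun h0 => hz0 ?_⟩
    have h1 : pr (I.Hgr m n) a z = z := pr_of_mem _ hz
    rw [show z = ∑ δ ∈ Δ, φ (F' δ : C →ₗ[R] E') by rw [← map_sum, ← hsum]; exact (φ.apply_symm_apply z).symm,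
      map_sum] at h1
    rw [← φ.apply_symm_apply z, show φ.symm z = f from rfl, hsum, map_sum, ← h1]
    refine Finset.sum_eq_zero fun δ _ => ?_
    rcases eq_or_ne δ a with rfl | hne
    · rw [h0, map_zero, map_zero]
    · exact pr_of_mem_ne _ (hφ δ _ (hdeg δ)) hne
  rw [hδ] at hδ0
  obtain ⟨x, hx⟩ : ∃ x, (F' a : C →ₗ[R] E') x ≠ 0 := by
    by_contra h; push Not at h; exact hδ0 (LinearMap.ext h)
  obtain ⟨g, hg⟩ : ∃ g, (F' a : C →ₗ[R] E') (pr 𝒞 g x) ≠ 0 := by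
    by_contra h
    push Not at h
    refine hx ?_
    rw [← sum_pr 𝒞 x, map_sum]
    exact Finset.sum_eq_zero fun g _ => h g
  refine ⟨g, ?_, pr 𝒞 g x, pr_mem 𝒞 g x, fun h => hg (by rw [h, map_zero])⟩
  by_contra hlt
  exact hg (hull_eq_zero_of_pos hpos hm he (d := g + a) (by omega) (hdeg a g _ (pr_mem 𝒞 g x)))

end Groth.Agent.GrCanon
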