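import Groth.Agent.GrCanon.Degree
import Groth.Agent.GrGor.Converse
import Groth.Agent.GrLCLib.FinPieces
import Groth.Agent.CanonDual.Gen
import Groth.Agent.GrCanon.Cyclic

/-!
The Hilbert function of the canonical module of a standard graded ring of dimension at least two.
-/

set_option autoImplicit false
set_option linter.unusedSectionVars false
set_option linter.style.haveILetI false
set_option backward.isDefEq.respectTransparency false
set_option backward.isDefEq.respectTransparency.types false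
universe u

open scoped Classical
open DirectSum IsLocalRing Groth.Agent.GrLCLib

noncomputable section

namespace Groth.Agent.GrCanon

/-- A prime with principal maximal ideal on top has dimension at most one. -/
lemma dim_quot_le_one {A : Type u} [CommRing A] [IsNoetherianRing A] [IsLocalRing A] (P : Ideal A) [P.IsPrime] {β : A}
    (hβ : β ∈ maximalIdeal A) (h : maximalIdeal A ≤ P ⊔ Ideal.span {β}) : ringKrullDim (A ⧸ P) ≤ 1 := by
  haveI : Nontrivial (A ⧸ P) := Ideal.Quotient.nontrivial_iff.2 (Ideal.IsPrime.ne_top ‹_›)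
  haveI : IsLocalRing (A ⧸ P) := IsLocalRing.of_surjective' (Ideal.Quotient.mk P) Ideal.Quotient.mk_surjective
  haveI : IsLocalHom (Ideal.Quotient.mk P) := IsLocalHom.of_surjective _ Ideal.Quotient.mk_surjective
  rw [← IsLocalRing.maximalIdeal_height_eq_ringKrullDim]
  refine WithBot.coe_le_coe.2 ?_
  refine Ideal.height_le_one_of_isPrincipal_of_mem_minimalPrimes (Ideal.span {Ideal.Quotient.mk P β}) _
    ⟨⟨inferInstance, (Ideal.span_singleton_le_iff_mem _).2 ((mem_maximalIdeal _).2 fun hb =>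
      (mem_maximalIdeal β).1 hβ (IsLocalHom.map_nonunit (f := Ideal.Quotient.mk P) β hb))⟩, fun J ⟨_, hJ⟩ _ x hx => ?_⟩
  obtain ⟨x, rfl⟩ := Ideal.Quotient.mk_surjective x
  have hx' : x ∈ maximalIdeal A := (mem_maximalIdeal x).2 fun hu => (mem_maximalIdeal _).1 hx (hu.map _)
  obtain ⟨p, hp, q, hq, rfl⟩ := Submodule.mem_sup.1 (h hx')
  obtain ⟨r, rfl⟩ := Ideal.mem_span_singleton'.1 hq
  rw [map_add, Ideal.Quotient.eq_zero_iff_mem.2 hp, zero_add, map_mul]
  exact Ideal.mul_mem_left _ _ ((Ideal.span_singleton_le_iff_mem _).1 hJ)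

variable {R : Type u} [CommRing R] [LocCoh.IsCohenMacaulayRing R] {𝒜 : ℤ → AddSubgroup R} [GradedRing 𝒜]
  {m : HomogeneousIdeal 𝒜}
  {E' : Type u} [AddCommGroup E'] [Module R E'] {𝓔 : ℤ → AddSubgroup E'} [DirectSum.Decomposition 𝓔]
  [SetLike.GradedSMul 𝒜 𝓔] {e : (R ⧸ m.toIdeal) →ₗ[R] E'}
  {C : Type u} [AddCommGroup C] [Module R C] {𝒞 : ℤ → AddSubgroup C} [DirectSum.Decomposition 𝒞]
  [SetLike.GradedSMul 𝒜 𝒞] {n : ℕ} {I : GrLC.StarInjRes 𝒜 𝒜}

theorem two_le_finrank [m.toIdeal.IsMaximal] (hpos : ∀ k : ℤ, k < 0 → 𝒜 k = ⊥) (h0 : IsField (GrLC.deg0 𝒜))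
    (hm : GrLC.IsStarLocal 𝒜 m) (hm1 : m.toIdeal = Ideal.span ((𝒜 1 : AddSubgroup R) : Set R))
    (hn : ringKrullDim R = n) (h2 : 2 ≤ n) (he : GrLC.IsStarInjHull 𝒜 (GrLC.quotGr 𝒜 m) 𝓔 e)
    (hC : GrLC.IsStarCanonical 𝒜 𝒞 𝓔 m n I) {a : ℤ}
    (ha : GrLC.endDeg (I.Hgr m n) = ((a : WithTop ℤ) : WithBot (WithTop ℤ))) {j : ℤ} (hj : -a < j) :
    2 ≤ Module.finrank (GrLC.deg0 𝒜) (GrLC.comp 𝒜 𝒞 j) := by
  obtain ⟨g, hga, x, hx, hx0⟩ := exists_low_degree hpos hm he hC ha
  haveI : Module.Finite R C := hC.1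
  letI := h0.toField
  haveI : Module.Finite (GrLC.deg0 𝒜) (GrLC.comp 𝒜 𝒞 j) := by
    obtain ⟨T, hT, hTs⟩ := (Submodule.fg_span_iff_fg_span_finset_subset _).1
      (show (Ideal.span ((𝒜 1 : AddSubgroup R) : Set R)).FG from IsNoetherian.noetherian _)
    refine finite_comp_mod (a := m) (f := fun b => ((T.equivFin.symm b : T) : R)) (dg := fun _ => (1 : ℤ))
      (fun b => hT (T.equivFin.symm b).2) (fun _ => one_pos) hpos ?_ (fun e he r hr => mem_of_pos hpos hm he hr) 𝒞 j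
    rw [hm1]
    refine hTs.trans (congrArg (Submodule.span R) (Set.ext fun y => ⟨fun hy => ⟨T.equivFin ⟨y, hy⟩, by simp⟩, ?_⟩))
    rintro ⟨b, rfl⟩
    exact (T.equivFin.symm b).2
  -- associated primes of the localised module have dimension `n`
  let A := Localization.AtPrime m.toIdeal
  let mk := LocalizedModule.mkLinearMap m.toIdeal.primeCompl C
  obtain ⟨E₀, _, _, f, hf, ⟨eK⟩⟩ := exists_local_canon he hC
  haveI := LocCoh.IsCohenMacaulayRing.isCohenMacaulayLocalRing_localization (R := R) m.toIdeal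
  have hass : ∀ P ∈ associatedPrimes A (LocalizedModule m.toIdeal.primeCompl C), ringKrullDim (A ⧸ P) = n := by
    intro P hP
    rw [CanonDual.associatedPrimes_eq hf eK (dim_atPrime hpos hm hn) (by omega)] at hP
    exact hP.2
  have hprime : ∀ {i : ℤ} {z : C}, z ∈ 𝒞 i → z ≠ 0 → ∃ P : Ideal A, P.IsPrime ∧ ringKrullDim (A ⧸ P) = n ∧
      ∀ r : R, r • z = 0 → algebraMap R A r ∈ P := by
    intro i z hz hz0
    have hz' : mk z ≠ 0 := fun h => by
      obtain ⟨s, hs⟩ := (IsLocalizedModule.eq_zero_iff m.toIdeal.primeCompl mk).1 h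
      exact hz0 (homogeneous_eq_zero hpos hm hz s.2 hs)
    obtain ⟨P, hP, hle⟩ := exists_le_isAssociatedPrime_of_isNoetherianRing A (mk z) hz'
    refine ⟨P, hP.isPrime, hass P hP, fun r hr => hle ?_⟩
    have : algebraMap R A r • mk z = 0 := by rw [algebraMap_smul, ← map_smul, hr, map_zero]
    simpa [Submodule.mem_colon_singleton] using this
  have hmP : ∀ P : Ideal A, P.IsPrime → ringKrullDim (A ⧸ P) = n → ¬ maximalIdeal A ≤ P := by
    intro P hP hd hle
    have h1 := dim_quot_le_one P (zero_mem _) (hle.trans le_sup_left)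
    rw [hd] at h1
    exact absurd (WithBot.coe_le_coe.1 h1) (not_le.2 (by exact_mod_cast h2))
  have hmap : ∀ P : Ideal A, (∀ r ∈ m.toIdeal, algebraMap R A r ∈ P) → maximalIdeal A ≤ P := fun P h => by
    rw [← Localization.AtPrime.map_eq_maximalIdeal]
    exact Ideal.map_le_iff_le_comap.2 h
  have hjg : g < j := by omega
  obtain ⟨k, rfl⟩ : ∃ k : ℕ, j = g + (k + 1 : ℕ) := ⟨(j - g - 1).toNat, by omega⟩
  obtain ⟨b, hb, v, hv, hbv⟩ : ∃ b ∈ 𝒜 1, ∃ v ∈ 𝒞 (g + k), b • v ≠ 0 := by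
    by_contra hcon
    push Not at hcon
    obtain ⟨P, hP, hd, hann⟩ := hprime hx hx0
    refine hmP P hP hd (hmap P fun r hr => hP.mem_of_pow_mem (k + 1) ?_)
    rw [← map_pow]
    refine hann _ ?_
    have h1 : r ^ (k + 1) ∈ Ideal.span ((𝒜 1 : AddSubgroup R) : Set R) ^ k * Ideal.span ((𝒜 1 : AddSubgroup R) : Set R) := by
      rw [← pow_succ, ← hm1]; exact Ideal.pow_mem_pow hr _
    refine Submodule.mul_induction_on h1 (fun s hs t ht => ?_) (fun s t hs ht => by rw [add_smul, hs, ht, add_zero])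
    rw [mul_comm, mul_smul]
    have hs' := GrGor.span_one_pow_le (𝒜 := 𝒜) k hs
    clear hs
    have key : ∀ b ∈ 𝒜 1, b • s • x = 0 := by
      intro b hb
      induction hs' using Submodule.span_induction with
      | mem w hw => exact hcon b hb _ (add_comm (k : ℤ) g ▸ smul_mem 𝒜 𝒞 hw hx)
      | zero => rw [zero_smul, smul_zero]
      | add p q _ _ hp hq => rw [add_smul, smul_add, hp, hq, add_zero]
      | smul c p _ hp => rw [smul_eq_mul, mul_smul, smul_comm, hp, smul_zero]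
    clear hs'
    induction ht using Submodule.span_induction with
    | mem w hw => exact key w hw
    | zero => rw [zero_smul]
    | add p q _ _ hp hq => rw [add_smul, hp, hq, add_zero]
    | smul c p _ hp => rw [smul_eq_mul, mul_smul, hp, smul_zero]
  by_contra hlt
  have hjmem : ∀ {c : R}, c ∈ 𝒜 1 → c • v ∈ 𝒞 (g + (k + 1 : ℕ)) := fun {c} hc => by
    rw [show g + ((k + 1 : ℕ) : ℤ) = 1 + (g + k) by omega]
    exact smul_mem 𝒜 𝒞 hc hv
  obtain ⟨z, hz⟩ := (finrank_le_one_iff (K := GrLC.deg0 𝒜) (V := GrLC.comp 𝒜 𝒞 (g + (k + 1 : ℕ)))).1 (by omega)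
  obtain ⟨c₀, hc₀⟩ := hz ⟨b • v, hjmem hb⟩
  have hc₀' : (c₀ : R) • (z : C) = b • v := congrArg Subtype.val hc₀
  obtain ⟨d, hd⟩ := h0.mul_inv_cancel (a := c₀) (fun h => hbv (by rw [← hc₀', h, Subring.coe_zero, zero_smul]))
  have hd' : (c₀ : R) * (d : R) = 1 := congrArg Subtype.val hd
  have hzv : (z : C) = (d : R) • b • v := by rw [← hc₀', ← mul_smul, mul_comm, hd', one_smul]
  have hz0 : (z : C) ≠ 0 := fun h => hbv (by rw [← hc₀', h, smul_zero])
  obtain ⟨P, hP, hdim, hann⟩ := hprime (show (z : C) ∈ 𝒞 (g + (k + 1 : ℕ)) from z.2) hz0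
  have hker : ∀ a ∈ 𝒜 1, ∃ r : R, (a - r * b) • (z : C) = 0 := by
    intro a ha
    obtain ⟨c, hc⟩ := hz ⟨a • v, hjmem ha⟩
    have hc' : (c : R) • (z : C) = a • v := congrArg Subtype.val hc
    refine ⟨(c : R) * d, ?_⟩
    have h1 : (a - (c : R) * d * b) • v = 0 := by
      rw [sub_smul, ← hc', mul_smul, mul_smul, ← hzv, sub_self]
    rw [hzv, smul_comm, smul_comm _ b, h1, smul_zero, smul_zero]
  have hbound := dim_quot_le_one P (β := algebraMap R A b)
    ((IsLocalization.AtPrime.to_map_mem_maximal_iff A m.toIdeal b).2 (mem_of_pos hpos hm one_pos hb))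
    (hmap _ fun r hr => by
      rw [hm1] at hr
      refine (Ideal.span_le.2 ?_ : _ ≤ (P ⊔ Ideal.span {algebraMap R A b}).comap (algebraMap R A)) hr
      intro a ha
      obtain ⟨r, hr⟩ := hker a ha
      rw [SetLike.mem_coe, Ideal.mem_comap, show a = (a - r * b) + r * b by ring, map_add, map_mul]
      exact add_mem (Ideal.mem_sup_left (hann _ hr)) (Ideal.mem_sup_right (Ideal.mul_mem_left _ _ (Ideal.mem_span_singleton_self _))))
  rw [hdim] at hbound
  exact absurd (WithBot.coe_le_coe.1 hbound) (not_le.2 (by exact_mod_cast h2))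

end Groth.Agent.GrCanon
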