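import Mathlib
import Groth.Agent.LocH.ChangeRings
import Groth.Agent.LocH.Localize
import Groth.Agent.InjHull.Basic
import Groth.Agent.LocH.Noetherian
import Groth.Agent.LocH.Vanishing
import Groth.Agent.LocH.LocalizeMap

/-!
Torsion modules at a maximal ideal and the localisation at that ideal.
-/

set_option autoImplicit false
set_option linter.unusedSectionVars false
set_option linter.style.haveILetI false
set_option backward.isDefEq.respectTransparency false
set_option backward.isDefEq.respectTransparency.types false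
universe u

open CategoryTheory CategoryTheory.Limits IsLocalRing

noncomputable section

namespace Groth.Agent.GrCanon

variable {R : Type u} [CommRing R] (P : Ideal R) [P.IsMaximal]

lemma exists_mul_sub_one {s : R} (hs : s ∉ P) (N : ℕ) : ∃ t : R, t * s - 1 ∈ P ^ N := by
  obtain ⟨b, p, hp, hbp⟩ := Ideal.IsMaximal.exists_inv ‹P.IsMaximal› hs
  obtain ⟨c, hc⟩ : b * s ∣ 1 - p ^ N := by
    have := sub_dvd_pow_sub_pow (1 : R) p N
    rwa [one_pow, show (1 : R) - p = b * s by rw [← hbp]; ring] at this
  refine ⟨b * c, ?_⟩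
  rw [show b * c * s - 1 = -(p ^ N) by linear_combination -hc]
  exact neg_mem (Ideal.pow_mem_pow hp N)

variable {M : Type u} [AddCommGroup M] [Module R M] (hM : LocCoh.IsPowerTorsion P M)

include hM in
lemma isUnit_smul (s : P.primeCompl) : IsUnit (algebraMap R (Module.End R M) s) := by
  rw [Module.End.isUnit_iff]
  refine ⟨(injective_iff_map_eq_zero _).2 fun x hx => ?_, fun x => ?_⟩
  · obtain ⟨N, hN⟩ := hM x
    obtain ⟨t, ht⟩ := exists_mul_sub_one P s.2 N
    have h := hN _ ht
    rw [sub_smul, one_smul, mul_smul, show (s : R) • x = 0 from hx, smul_zero, zero_sub, neg_eq_zero] at h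
    exact h
  · obtain ⟨N, hN⟩ := hM x
    obtain ⟨t, ht⟩ := exists_mul_sub_one P s.2 N
    refine ⟨t • x, ?_⟩
    have h := hN _ ht
    rw [sub_smul, one_smul, sub_eq_zero] at h
    show (s : R) • t • x = x
    rw [← mul_smul, mul_comm, h]

include hM in
lemma bijective_mk : Function.Bijective (LocalizedModule.mkLinearMap P.primeCompl M) := by
  refine ⟨(injective_iff_map_eq_zero _).2 fun x hx => ?_, fun z => ?_⟩
  · obtain ⟨s, hs⟩ := (IsLocalizedModule.eq_zero_iff P.primeCompl _).1 hx
    exact (Module.End.isUnit_iff _ |>.1 (isUnit_smul P hM s)).1 (hs.trans (map_zero _).symm)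
  · obtain ⟨⟨x, s⟩, hz⟩ := IsLocalizedModule.surj P.primeCompl (LocalizedModule.mkLinearMap P.primeCompl M) z
    obtain ⟨y, hy⟩ := (Module.End.isUnit_iff _ |>.1 (isUnit_smul P hM s)).2 x
    refine ⟨y, (Module.End.isUnit_iff _ |>.1 (IsLocalizedModule.map_units
      (LocalizedModule.mkLinearMap P.primeCompl M) s)).1 ?_⟩
    show (s : R) • LocalizedModule.mkLinearMap P.primeCompl M y = (s : R) • z
    rw [← map_smul, show (s : R) • y = x from hy]
    exact hz.symm

/-- A torsion module at a maximal ideal is its own localisation. -/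
def selfLoc : M ≃ₗ[R] LocalizedModule P.primeCompl M :=
  LinearEquiv.ofBijective _ (bijective_mk P hM)

variable [IsNoetherianRing R]

lemma mem_eq_zero {Z : Type u} [AddCommGroup Z] [Module R Z] (hZ : LocCoh.IsPowerTorsion P Z) (x : Z)
    {s : R} (hs : s ∉ P) (hsx : s • x = 0) : x = 0 :=
  (Module.End.isUnit_iff _ |>.1 (isUnit_smul P hZ ⟨s, hs⟩)).1 (hsx.trans (map_zero _).symm)

theorem subsingleton_H_of_killed (K : ModuleCat.{u} R) (hK : ∀ x : K, ∃ s ∉ P, s • x = 0) (i : ℕ) :
    Subsingleton ↑((localCohomology P i).obj K) := by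
  refine subsingleton_of_forall_eq 0 fun x => ?_
  obtain ⟨K₀, hK₀, y, rfl⟩ := LocH.exists_fg_map_eq K i x
  obtain ⟨G, rfl⟩ := hK₀
  choose s hs hsx using hK
  have hkill : ∀ w : ModuleCat.of R ↥(Submodule.span R (G : Set K)), (∏ g ∈ G, s g) • w = 0 := fun w => Subtype.ext (by
    obtain ⟨w, hw⟩ := w
    show (∏ g ∈ G, s g) • w = 0
    induction hw using Submodule.span_induction with
    | mem g hg =>
      classical
      rw [← Finset.prod_erase_mul G s hg, mul_smul, hsx, smul_zero]
    | zero => rw [smul_zero]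
    | add a b _ _ ha hb => rw [smul_add, ha, hb, add_zero]
    | smul r a _ ha => rw [smul_comm, ha, smul_zero])
  have hy : y = 0 := mem_eq_zero P (LocH.isPowerTorsion P i _) y
    (show (∏ g ∈ G, s g) ∉ P from Submonoid.prod_mem P.primeCompl fun g _ => hs g)
    (LocH.smul_eq_zero_of_smul_eq_zero hkill i y)
  rw [hy, map_zero]

/-- `H^i_P` does not see the localisation at the maximal ideal `P`. -/
theorem bijective_H_map {M L : ModuleCat.{u} R} (f : M ⟶ L) [IsLocalizedModule P.primeCompl f.hom] (i : ℕ) :
    Function.Bijective ((localCohomology P i).map f) := by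
  let S₁ : ShortComplex (ModuleCat.{u} R) :=
    ShortComplex.mk (X₁ := ModuleCat.of R (LinearMap.ker f.hom)) (X₂ := M)
      (X₃ := ModuleCat.of R (LinearMap.range f.hom)) (ModuleCat.ofHom (LinearMap.ker f.hom).subtype)
      (ModuleCat.ofHom f.hom.rangeRestrict) (by ext x; exact x.2)
  let S₂ : ShortComplex (ModuleCat.{u} R) :=
    ShortComplex.mk (X₁ := ModuleCat.of R (LinearMap.range f.hom)) (X₂ := L)
      (X₃ := ModuleCat.of R (L ⧸ LinearMap.range f.hom)) (ModuleCat.ofHom (LinearMap.range f.hom).subtype)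
      (ModuleCat.ofHom (LinearMap.range f.hom).mkQ)
      (by ext x; exact (Submodule.Quotient.mk_eq_zero _).2 x.2)
  have hS₁ : S₁.ShortExact :=
    { exact := by
        rw [ShortComplex.moduleCat_exact_iff]
        intro y hy
        exact ⟨⟨y, congrArg Subtype.val hy⟩, rfl⟩
      mono_f := (ModuleCat.mono_iff_injective _).2 (LinearMap.ker f.hom).injective_subtype
      epi_g := (ModuleCat.epi_iff_surjective _).2 f.hom.surjective_rangeRestrict }
  have hS₂ : S₂.ShortExact :=
    { exact := by
        rw [ShortComplex.moduleCat_exact_iff]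
        intro y hy
        exact ⟨⟨y, (Submodule.Quotient.mk_eq_zero _).1 hy⟩, rfl⟩
      mono_f := (ModuleCat.mono_iff_injective _).2 (LinearMap.range f.hom).injective_subtype
      epi_g := (ModuleCat.epi_iff_surjective _).2 (Submodule.mkQ_surjective _) }
  have hK : ∀ j, Subsingleton ↑((localCohomology P j).obj S₁.X₁) :=
    subsingleton_H_of_killed P (ModuleCat.of R (LinearMap.ker f.hom)) fun x => by
      obtain ⟨s, hs⟩ := (IsLocalizedModule.eq_zero_iff P.primeCompl f.hom).1 x.2
      exact ⟨s, s.2, Subtype.ext hs⟩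
  have hC : ∀ j, Subsingleton ↑((localCohomology P j).obj S₂.X₃) :=
    subsingleton_H_of_killed P (ModuleCat.of R (L ⧸ LinearMap.range f.hom)) fun x => by
      obtain ⟨x, rfl⟩ := Submodule.mkQ_surjective _ x
      obtain ⟨⟨m, s⟩, hms⟩ := IsLocalizedModule.surj P.primeCompl f.hom x
      refine ⟨s, s.2, ?_⟩
      rw [← map_smul]
      exact (Submodule.Quotient.mk_eq_zero _).2 ⟨m, hms.symm⟩
  have hb₁ : Function.Bijective ((localCohomology P i).map S₁.g) := by
    refine ⟨(injective_iff_map_eq_zero _).2 fun x hx => ?_, fun x => ?_⟩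
    · obtain ⟨y, rfl⟩ := LocH.exact₂ hS₁ i (x := x) hx
      rw [(hK i).elim y 0, map_zero]
    · exact LocH.exact₃ hS₁ i (x := x) ((hK (i + 1)).elim _ _)
  have hb₂ : Function.Bijective ((localCohomology P i).map S₂.f) := by
    refine ⟨?_, fun x => LocH.exact₂ hS₂ i (x := x) ((hC i).elim _ _)⟩
    rcases i with _ | j
    · exact LocH.map_injective_zero P S₂.f (LinearMap.range f.hom).injective_subtype
    · refine (injective_iff_map_eq_zero _).2 fun x hx => ?_
      obtain ⟨y, rfl⟩ := LocH.exact₁ hS₂ j (x := x) hx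
      rw [(hC j).elim y 0, map_zero]
  rw [show f = S₁.g ≫ S₂.f from rfl, Functor.map_comp]
  exact hb₂.comp hb₁

/-- The local cohomology of `R` at a maximal ideal is that of the local ring. -/
theorem exists_H_equiv (n : ℕ) :
    ∃ ψ : LocCoh.H P n R ≃+ LocCoh.H (maximalIdeal (Localization.AtPrime P)) n (Localization.AtPrime P),
      ∀ (r : R) x, ψ (r • x) = algebraMap R (Localization.AtPrime P) r • ψ x := by
  let A := Localization.AtPrime P
  obtain ⟨φ, hφ⟩ := LocH.exists_semilinearEquiv (R' := A) P n A
  have hPA : P.map (algebraMap R A) = maximalIdeal A := Localization.AtPrime.map_eq_maximalIdeal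
  let g : ModuleCat.of R R ⟶ ModuleCat.of R A := ModuleCat.ofHom (Algebra.linearMap R A)
  haveI : IsLocalizedModule P.primeCompl g.hom :=
    inferInstanceAs (IsLocalizedModule P.primeCompl (Algebra.linearMap R A))
  let e := LinearEquiv.ofBijective ((localCohomology P n).map g).hom (bijective_H_map P g n)
  rw [← hPA]
  refine ⟨e.toAddEquiv.trans φ.symm, fun r x => φ.injective ?_⟩
  rw [hφ]
  show φ (φ.symm (e (r • x))) = r • φ (φ.symm (e x))
  erw [AddEquiv.apply_symm_apply, AddEquiv.apply_symm_apply]
  exact map_smul e r x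

/-- The hull of `R ⧸ P` is the hull of the residue field of the local ring. -/
theorem exists_hull {X : Type u} [AddCommGroup X] [Module R X] (hX : LocCoh.IsPowerTorsion P X)
    {e : (R ⧸ P) →ₗ[R] X} (he : _root_.InjHull.IsInjectiveHull e) :
    ∃ f : ResidueField (Localization.AtPrime P) →ₗ[Localization.AtPrime P] LocalizedModule P.primeCompl X,
      _root_.InjHull.IsInjectiveHull f := by
  let A := Localization.AtPrime P
  let ψ : R →ₗ[R] ResidueField A := Algebra.linearMap R _
  have hker : LinearMap.ker ψ = P := by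
    ext x
    rw [LinearMap.mem_ker]
    show residue A (algebraMap R A x) = 0 ↔ _
    rw [residue_eq_zero_iff, IsLocalization.AtPrime.to_map_mem_maximal_iff A P x]
  have hsurj : Function.Surjective ψ := by
    intro c
    obtain ⟨z, rfl⟩ := residue_surjective c
    obtain ⟨⟨x, s⟩, rfl⟩ := IsLocalization.mk'_surjective P.primeCompl z
    obtain ⟨t, ht⟩ := exists_mul_sub_one P s.2 1
    refine ⟨x * t, ?_⟩
    show residue A (algebraMap R A (x * t)) = _
    refine Ideal.Quotient.eq.2 ((IsLocalization.AtPrime.isUnit_to_map_iff A P (s : R)).2 s.2 |>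
      fun hu => (Ideal.mul_unit_mem_iff_mem _ hu).1 ?_)
    rw [sub_mul, IsLocalization.mk'_spec, ← map_mul, ← map_sub]
    refine (IsLocalization.AtPrime.to_map_mem_maximal_iff A P _).2 ?_
    rw [show x * t * (s : R) - x = x * (t * s - 1) by ring]
    exact Ideal.mul_mem_left _ _ (by rwa [pow_one] at ht)
  let k : (R ⧸ P) ≃ₗ[R] ResidueField A :=
    (Submodule.quotEquivOfEq P (LinearMap.ker ψ) hker.symm).trans (ψ.quotKerEquivOfSurjective hsurj)
  let eX := selfLoc P hX
  let f := LinearMap.extendScalarsOfIsLocalization P.primeCompl A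
    (eX.toLinearMap ∘ₗ e ∘ₗ k.symm.toLinearMap)
  refine ⟨f, ⟨⟨eX.injective.comp (he.injective.comp k.symm.injective), fun N hN hbot => ?_⟩, ?_⟩⟩
  · obtain ⟨z, hz, hz0⟩ := Submodule.exists_mem_ne_zero_of_ne_bot hN
    let N₀ : Submodule R X := (N.restrictScalars R).comap eX.toLinearMap
    have hN₀ : N₀ ≠ ⊥ := fun h => hz0 (by
      have : eX.symm z ∈ N₀ := show eX (eX.symm z) ∈ N by rwa [eX.apply_symm_apply]
      rw [h, Submodule.mem_bot] at this
      rw [← eX.apply_symm_apply z, this, map_zero])
    refine he.essential N₀ hN₀ ((Submodule.eq_bot_iff _).2 fun x hx => ?_)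
    obtain ⟨hxN, q, rfl⟩ := hx
    have h1 : eX (e q) ∈ N ⊓ LinearMap.range f := ⟨hxN, k q, by
      show eX (e (k.symm (k q))) = _
      rw [k.symm_apply_apply]⟩
    rw [hbot, Submodule.mem_bot] at h1
    exact eX.injective (h1.trans (map_zero _).symm)
  · haveI := he.isInjective
    exact Module.injective_of_isLocalizedModule P.primeCompl (Rₛ := A) (LocalizedModule.mkLinearMap P.primeCompl X)

/-- A duality `Hom(C, X) ≅ H^n_P(R)` passes to the local ring. -/
theorem exists_local_dual {X : Type u} [AddCommGroup X] [Module R X] (hX : LocCoh.IsPowerTorsion P X)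
    {e : (R ⧸ P) →ₗ[R] X} (he : _root_.InjHull.IsInjectiveHull e) (n : ℕ) (C : Type u) [AddCommGroup C] [Module R C]
    (φ : (C →ₗ[R] X) ≃ₗ[R] LocCoh.H P n R) (E₀ : Type u) [AddCommGroup E₀] [Module (Localization.AtPrime P) E₀]
    (f₀ : ResidueField (Localization.AtPrime P) →ₗ[Localization.AtPrime P] E₀) (hf₀ : _root_.InjHull.IsInjectiveHull f₀) :
    Nonempty ((LocalizedModule P.primeCompl C →ₗ[Localization.AtPrime P] E₀) ≃ₗ[Localization.AtPrime P]
      LocCoh.H (maximalIdeal (Localization.AtPrime P)) n (Localization.AtPrime P)) := by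
  let A := Localization.AtPrime P
  obtain ⟨f, hf⟩ := exists_hull P hX he
  obtain ⟨u, -⟩ := InjHull.injectiveHull_unique hf hf₀
  let eX := selfLoc P hX
  let mkC := LocalizedModule.mkLinearMap P.primeCompl C
  have hu : ∀ s : P.primeCompl, IsUnit (algebraMap R (Module.End R (LocalizedModule P.primeCompl X)) s) :=
    IsLocalizedModule.map_units (LocalizedModule.mkLinearMap P.primeCompl X)
  let Θ : (LocalizedModule P.primeCompl C →ₗ[A] LocalizedModule P.primeCompl X) ≃ₗ[R] (C →ₗ[R] X) :=
    { toFun := fun g => eX.symm.toLinearMap ∘ₗ g.restrictScalars R ∘ₗ mkC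
      map_add' := fun g h => by ext x; simp [map_add]
      map_smul' := fun r g => by
        ext x
        simp only [RingHom.id_apply, LinearMap.comp_apply, LinearEquiv.coe_toLinearMap, LinearMap.smul_apply]
        exact map_smul eX.symm r _
      invFun := fun h => LinearMap.extendScalarsOfIsLocalization P.primeCompl A
        (LocalizedModule.lift P.primeCompl (eX.toLinearMap ∘ₗ h) hu)
      left_inv := fun g => by
        refine LinearMap.restrictScalars_injective R (IsLocalizedModule.linearMap_ext P.primeCompl mkC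
          (LocalizedModule.mkLinearMap P.primeCompl X) ?_)
        ext x
        show LocalizedModule.lift P.primeCompl _ hu (mkC x) = g (mkC x)
        rw [show LocalizedModule.lift P.primeCompl _ hu (mkC x) = _ from
          LinearMap.congr_fun (LocalizedModule.lift_comp P.primeCompl _ hu) x]
        exact eX.apply_symm_apply _
      right_inv := fun h => by
        ext x
        show eX.symm (LocalizedModule.lift P.primeCompl _ hu (mkC x)) = h x
        rw [show LocalizedModule.lift P.primeCompl _ hu (mkC x) = _ from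
          LinearMap.congr_fun (LocalizedModule.lift_comp P.primeCompl _ hu) x]
        exact eX.symm_apply_apply _ }
  obtain ⟨ψ, hψ⟩ := exists_H_equiv P n
  letI : Module R (LocCoh.H (maximalIdeal A) n A) := Module.compHom _ (algebraMap R A)
  haveI : IsScalarTower R A (LocCoh.H (maximalIdeal A) n A) := IsScalarTower.of_algebraMap_smul fun r x => rfl
  let ψ' : LocCoh.H P n R ≃ₗ[R] LocCoh.H (maximalIdeal A) n A :=
    { ψ with map_smul' := fun r x => (hψ r x).trans rfl }
  exact ⟨(LinearEquiv.congrRight u).symm.trans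
    (LinearEquiv.extendScalarsOfIsLocalization P.primeCompl A (Θ.trans (φ.trans ψ')))⟩

end Groth.Agent.GrCanon
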