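import Mathlib
import Groth.Agent.GrCanon.LocalBridge

/-!
Minimal number of generators, locally at a maximal ideal and globally.
-/

set_option autoImplicit false
set_option linter.unusedSectionVars false
set_option linter.style.haveILetI false
set_option backward.isDefEq.respectTransparency false
set_option backward.isDefEq.respectTransparency.types false
universe u

open IsLocalRing TensorProduct

noncomputable section

namespace Groth.Agent.GrCanon

variable {R : Type u} [CommRing R] (P : Ideal R) [P.IsMaximal]

theorem length_tensor_residue (C : Type u) [AddCommGroup C] [Module R C] [Module.Finite R C] :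
    Module.length (Localization.AtPrime P)
        (ResidueField (Localization.AtPrime P) ⊗[Localization.AtPrime P] LocalizedModule P.primeCompl C) =
      (Module.finrank (R ⧸ P) ((R ⧸ P) ⊗[R] C) : ℕ∞) := by
  let A := Localization.AtPrime P
  let k := ResidueField A
  let ψ : R →ₗ[R] k := Algebra.linearMap R k
  have hker : LinearMap.ker ψ = P := by
    ext x
    rw [LinearMap.mem_ker]
    show residue A (algebraMap R A x) = 0 ↔ _
    rw [residue_eq_zero_iff, IsLocalization.AtPrime.to_map_mem_maximal_iff A P x]
  have hsurj : Function.Surjective (algebraMap R k) := by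
    intro c
    obtain ⟨z, rfl⟩ := residue_surjective c
    obtain ⟨⟨x, s⟩, rfl⟩ := IsLocalization.mk'_surjective P.primeCompl z
    obtain ⟨t, ht⟩ := exists_mul_sub_one P s.2 1
    refine ⟨x * t, ?_⟩
    show residue A (algebraMap R A (x * t)) = _
    refine Ideal.Quotient.eq.2 ((Ideal.mul_unit_mem_iff_mem _ (IsLocalization.map_units A s)).1 ?_)
    rw [sub_mul, IsLocalization.mk'_spec, ← map_mul, ← map_sub]
    refine (IsLocalization.AtPrime.to_map_mem_maximal_iff A P _).2 ?_
    rw [show x * t * (s : R) - x = x * (t * s - 1) by ring]
    exact Ideal.mul_mem_left _ _ (by rwa [pow_one] at ht)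
  let e : (R ⧸ P) ≃ₗ[R] k :=
    (Submodule.quotEquivOfEq P (LinearMap.ker ψ) hker.symm).trans (ψ.quotKerEquivOfSurjective hsurj)
  let eC : LocalizedModule P.primeCompl C ≃ₗ[A] A ⊗[R] C := LocalizedModule.equivTensorProduct P.primeCompl C
  have h1 : Module.length A (k ⊗[A] LocalizedModule P.primeCompl C) = Module.length A (k ⊗[R] C) :=
    ((TensorProduct.congr (LinearEquiv.refl A k) eC).trans
      (TensorProduct.AlgebraTensorModule.cancelBaseChange R A A k C)).length_eq
  have h2 : Module.length A (k ⊗[R] C) = Module.length k (k ⊗[R] C) :=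
    Module.length_eq_of_surjective residue_surjective
  have h3 : Module.length R (k ⊗[R] C) = Module.length k (k ⊗[R] C) := Module.length_eq_of_surjective hsurj
  have h4 : Module.length R ((R ⧸ P) ⊗[R] C) = Module.length (R ⧸ P) ((R ⧸ P) ⊗[R] C) :=
    Module.length_eq_of_surjective Ideal.Quotient.mk_surjective
  have h5 : Module.length R (k ⊗[R] C) = Module.length R ((R ⧸ P) ⊗[R] C) :=
    (LinearEquiv.rTensor C e.symm).length_eq
  letI := Ideal.Quotient.field P
  rw [h1, h2, ← h3, h5, h4, Module.length_eq_finrank]

end Groth.Agent.GrCanon
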