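import Groth.Prelude.Def_GrLC2
import Groth.Agent.S7699
import Groth.Agent.S7702
import Groth.Agent.GrGor.ExtReg
import Groth.Agent.InjHull.Matlis
import Groth.Agent.CanonDual.Exist

/-!
The type of a Cohen–Macaulay local ring and of its canonical module.
-/

set_option autoImplicit false
set_option linter.unusedSectionVars false
set_option linter.style.haveILetI false
set_option backward.isDefEq.respectTransparency false
set_option backward.isDefEq.respectTransparency.types false
universe u

open IsLocalRing CategoryTheory Abelian TensorProduct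

noncomputable section

namespace Groth.Agent.GrCanon

variable {A : Type u} [CommRing A] [LocCoh.IsCohenMacaulayLocalRing A] {n : ℕ} (hn : ringKrullDim A = n)
  {E : Type u} [AddCommGroup E] [Module A E] {f : ResidueField A →ₗ[A] E} (hf : InjHull.IsInjectiveHull f)
  {K : Type u} [AddCommGroup K] [Module A K] [Module.Finite A K]
  (eK : (K →ₗ[A] E) ≃ₗ[A] LocCoh.H (maximalIdeal A) n A)

lemma smul_residue {a : A} (ha : a ∈ maximalIdeal A) (c : ResidueField A) : a • c = 0 := by
  obtain ⟨c, rfl⟩ := residue_surjective c
  exact Ideal.Quotient.eq_zero_iff_mem.2 (Ideal.mul_mem_right c _ ha)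

/-- Finite modules killed by the maximal ideal have finite length. -/
lemma isFiniteLength_of_killed {X : Type u} [AddCommGroup X] [Module A X] [Module.Finite A X]
    (h : ∀ a ∈ maximalIdeal A, ∀ x : X, a • x = 0) : IsFiniteLength A X := by
  have htors : Module.IsTorsionBySet A X (maximalIdeal A : Set A) := fun x a => h a a.2 x
  letI := htors.module
  haveI : IsScalarTower A (A ⧸ maximalIdeal A) X := htors.isScalarTower
  haveI : Module.Finite (A ⧸ maximalIdeal A) X := Module.Finite.of_restrictScalars_finite A _ X
  letI := Ideal.Quotient.field (maximalIdeal A)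
  rw [← Module.length_ne_top_iff, Module.length_eq_of_surjective (R := A ⧸ maximalIdeal A) Ideal.Quotient.mk_surjective,
    Module.length_ne_top_iff, isFiniteLength_iff_isNoetherian_isArtinian]
  exact ⟨inferInstance, inferInstance⟩

lemma length_residue : Module.length A (ResidueField A) = 1 := by
  haveI : IsSimpleModule A (ResidueField A) :=
    (isSimpleModule_iff_quot_maximal).2 ⟨maximalIdeal A, inferInstance, ⟨LinearEquiv.refl A _⟩⟩
  exact Module.length_eq_one A _

/-- Homomorphisms out of the residue field only see the torsion. -/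
def homTorsionEquiv (X : Type u) [AddCommGroup X] [Module A X] :
    (ResidueField A →ₗ[A] ↥(DRing.torsionSub (maximalIdeal A) X)) ≃ₗ[A] (ResidueField A →ₗ[A] X) :=
  LinearEquiv.ofLinearMap (LinearMap.llcomp A _ _ _ (DRing.torsionSub (maximalIdeal A) X).subtype)
    { toFun := fun g => g.codRestrict _ fun c => ⟨1, fun a ha => by
        rw [pow_one] at ha
        rw [← map_smul, smul_residue ha, map_zero]⟩
      map_add' := fun g h => rfl
      map_smul' := fun r g => rfl }
    rfl rfl

include hn hf eK in
theorem bass_canonical : GrLC.bassNumLocal A K n = 1 := by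
  obtain ⟨a⟩ := S7699.result A n hn E f hf K eK (ResidueField A) n le_rfl
  rw [Nat.sub_self] at a
  let X := Ext.{u} (ModuleCat.of A (ResidueField A)) (ModuleCat.of A K) n
  let b := ExtCompare.extEquiv A (ModuleCat.of A (ResidueField A)) (ModuleCat.of A K) n
  haveI := CanonDual.finite_ext (S := A) (ResidueField A) K n
  haveI : Module.Finite A X := Module.Finite.equiv b
  have hkill : ∀ r ∈ maximalIdeal A, ∀ x : X, r • x = 0 := fun r hr x =>
    Goren.smul_ext_eq_zero (fun w => smul_residue hr w) x
  have htop : DRing.torsionSub (maximalIdeal A) (ResidueField A) = ⊤ :=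
    eq_top_iff.2 fun c _ => ⟨1, fun r hr => smul_residue (by rwa [pow_one] at hr) c⟩
  let c : ResidueField A ≃ₗ[A] LocCoh.H (maximalIdeal A) 0 (ResidueField A) :=
    ((LinearEquiv.ofTop _ htop).symm).trans
      ((LocH.zeroIso (maximalIdeal A)).app (ModuleCat.of A (ResidueField A))).toLinearEquiv.symm
  have h1 : Module.length A (X →ₗ[A] E) = 1 := by
    rw [← (c.trans (a.trans (LinearEquiv.congrLeft E A b))).length_eq, length_residue]
  show Module.length A X = 1
  rw [← InjHull.length_dual hf (isFiniteLength_of_killed hkill) fun x => ⟨1, fun r hr => hkill r (by rwa [pow_one] at hr) x⟩]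
  exact h1

include hn hf eK in
theorem bass_eq_length_tensor :
    GrLC.bassNumLocal A A n = Module.length A (ResidueField A ⊗[A] K) := by
  obtain ⟨-, hvan⟩ := CanonDual.cm_data A hn
  obtain ⟨rs, hlen, hrs, hmem⟩ := LocH.exists_isWeaklyRegular (maximalIdeal A) n A hvan
  obtain ⟨-, ⟨e1⟩⟩ := GrGor.ext_of_regular (W := ResidueField A) rs A hrs fun r hr => smul_residue (hmem r hr)
  obtain ⟨e2⟩ := (S7702.result A n hn E f hf K eK rs hmem).2
    ((IsLocalRing.isRegular_iff_isWeaklyRegular_of_subset_maximalIdeal (M := A) hmem).2 hrs)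
  rw [hlen] at e1
  rw [hlen, Nat.sub_self] at e2
  let N := Ideal.ofList rs • (⊤ : Submodule A K)
  let t := LinearMap.lTensor (ResidueField A) N.mkQ
  have hbij : Function.Bijective t := by
    refine ⟨(injective_iff_map_eq_zero t).2 fun z hz => ?_, LinearMap.lTensor_surjective _ N.mkQ_surjective⟩
    have h0 : LinearMap.lTensor (ResidueField A) N.subtype = 0 := by
      refine TensorProduct.ext' fun c w => ?_
      obtain ⟨w, hw⟩ := w
      show c ⊗ₜ[A] w = 0
      induction hw using Submodule.smul_induction_on' with
      | smul r hr x _ =>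
        have hr' : r ∈ maximalIdeal A := (Ideal.span_le.2 hmem) hr
        rw [← TensorProduct.smul_tmul, smul_residue hr', TensorProduct.zero_tmul]
      | add x _ y _ hx hy => rw [TensorProduct.tmul_add, hx, hy, add_zero]
    obtain ⟨w, rfl⟩ := ((lTensor_exact (ResidueField A) (LinearMap.exact_subtype_mkQ N) N.mkQ_surjective) z).1 hz
    rw [h0]; rfl
  let Q := K ⧸ N
  let d : (ResidueField A →ₗ[A] A ⧸ (Ideal.ofList rs • ⊤ : Submodule A A)) ≃ₗ[A] ((ResidueField A ⊗[A] K) →ₗ[A] E) :=
    (LinearEquiv.congrRight (Submodule.quotEquivOfEq _ _ (by rw [smul_eq_mul, Ideal.mul_top]))).trans <|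
    (homTorsionEquiv (A ⧸ Ideal.ofList rs)).symm.trans <|
    (LinearEquiv.congrRight ((((LocH.zeroIso (maximalIdeal A)).app (ModuleCat.of A (A ⧸ Ideal.ofList rs))).toLinearEquiv.symm).trans e2.symm)).trans <|
    (TensorProduct.lift.equiv (RingHom.id A) (ResidueField A) Q E).trans
      (LinearEquiv.congrLeft E A (LinearEquiv.ofBijective t hbij).symm)
  show Module.length A (Ext.{u} (ModuleCat.of A (ResidueField A)) (ModuleCat.of A A) n) = _
  rw [e1.length_eq, d.length_eq]
  have hkill : ∀ r ∈ maximalIdeal A, ∀ x : ResidueField A ⊗[A] K, r • x = 0 := fun r hr x => by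
    induction x using TensorProduct.induction_on with
    | zero => exact smul_zero _
    | tmul c y => rw [TensorProduct.smul_tmul', smul_residue hr, TensorProduct.zero_tmul]
    | add x y hx hy => rw [smul_add, hx, hy, add_zero]
  exact InjHull.length_dual hf (isFiniteLength_of_killed hkill) fun x => ⟨1, fun r hr => hkill r (by rwa [pow_one] at hr) x⟩

/-- Bass numbers only depend on the isomorphism class. -/
theorem bassNumLocal_congr {B : Type u} [CommRing B] [IsLocalRing B] {M N : Type u} [AddCommGroup M] [Module B M]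
    [AddCommGroup N] [Module B N] (e : M ≃ₗ[B] N) (i : ℕ) : GrLC.bassNumLocal B M i = GrLC.bassNumLocal B N i := by
  let eExt : Ext.{u} (ModuleCat.of B (ResidueField B)) (ModuleCat.of B M) i ≃ₗ[B]
      Ext.{u} (ModuleCat.of B (ResidueField B)) (ModuleCat.of B N) i := by
    refine LinearEquiv.ofLinearMap
      (Ext.postcompOfLinear (Ext.mk₀ (ModuleCat.ofHom e.toLinearMap)) B _ (a := i) (add_zero _))
      (Ext.postcompOfLinear (Ext.mk₀ (ModuleCat.ofHom e.symm.toLinearMap)) B _ (a := i) (add_zero _)) ?_ ?_
    all_goals
      refine LinearMap.ext fun x => ?_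
      show (x.comp _ (add_zero _)).comp _ (add_zero _) = x
      rw [Ext.comp_assoc_of_third_deg_zero, Ext.mk₀_comp_mk₀]
      convert Ext.comp_mk₀_id x using 3
      exact ModuleCat.hom_ext (LinearMap.ext fun _ => by simp)
  exact eExt.length_eq

end Groth.Agent.GrCanon
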